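import Groth.Agent.Lib.WeilExt.Apply
import Groth.Agent.Lib.WeilExt.Generic
import Groth.Agent.Lib.AbRigid.Basic
import Groth.Agent.Lib.ProjSpace.BaseChange
import Mathlib.AlgebraicGeometry.Morphisms.Integral

/-!
# Rational curves in proper group schemes are constant
-/

set_option linter.style.haveILetI false

universe u

open CategoryTheory Limits AlgebraicGeometry MonoidalCategory CartesianMonoidalCategory MonObj Polynomial
open TensorProduct
open Groth.Agent.AbRigid (slice)

namespace Groth.Agent.RegExt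

/-- Projective space over a domain is integral. -/
theorem isIntegral_projSpace (n : ℕ) (R : Type u) [CommRing R] [IsDomain R] :
    IsIntegral (CohB1.ProjSpace n R) := by
  let gp : ProjectiveSpectrum (CohB1.polyGrading n R) :=
    ⟨⊥, by rw [HomogeneousIdeal.toIdeal_bot]; exact Ideal.isPrime_bot, fun h => by
      have := h (HomogeneousIdeal.mem_irrelevant_of_mem _ Nat.one_pos (ProjSpace.X_mem' n R 0))
      rw [← HomogeneousIdeal.mem_iff, HomogeneousIdeal.toIdeal_bot, Ideal.mem_bot] at this
      exact MvPolynomial.X_ne_zero _ this⟩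
  haveI : IrreducibleSpace (CohB1.ProjSpace n R) := by
    have hirr : IsIrreducible (Set.univ : Set (ProjectiveSpectrum (CohB1.polyGrading n R))) := by
      have : closure {gp} = Set.univ := Set.eq_univ_of_forall fun x =>
        (ProjectiveSpectrum.le_iff_mem_closure _ gp x).1
          ((ProjectiveSpectrum.as_ideal_le_as_ideal _ _ _).1 (bot_le : gp.asHomogeneousIdeal ≤ x.asHomogeneousIdeal))
      exact this ▸ isIrreducible_singleton.closure
    have hirr' : IsIrreducible (Set.univ : Set (CohB1.ProjSpace n R)) := hirr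
    haveI : PreirreducibleSpace (CohB1.ProjSpace n R) := ⟨hirr'.2⟩
    exact { toNonempty := hirr'.1.to_type }
  haveI : ∀ i, IsReduced ((ProjSpace.cover n R).X i) := fun i =>
    inferInstanceAs (IsReduced (Spec (CommRingCat.of (MvPolynomial {j : Fin (n + 1) // j ≠ i.down} R))))
  haveI : IsReduced (CohB1.ProjSpace n R) := IsReduced.of_openCover _ (ProjSpace.cover n R)
  exact isIntegral_of_irreducibleSpace_of_isReduced _

section Line

variable (k : Type u) [Field k]

/-- The affine line over `k`. -/
noncomputable abbrev line : Over (Spec (CommRingCat.of k)) :=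
  Over.mk (Spec.map (CommRingCat.ofHom (algebraMap k k[X])))

/-- The rational point `a` of the affine line. -/
noncomputable def linePt (a : k) : 𝟙_ (Over (Spec (CommRingCat.of k))) ⟶ line k :=
  Over.homMk (Spec.map (CommRingCat.ofHom (aeval a).toRingHom)) (by
    show Spec.map _ ≫ Spec.map _ = 𝟙 _
    rw [← Spec.map_comp, ← CommRingCat.ofHom_comp, ← Spec.map_id]
    congr 2
    ext r
    simp)

abbrev Idx := {j : Fin 2 // j ≠ 0}

/-- Coordinate ring of the chart of `P¹ × 𝔸¹`. -/
abbrev ChartRing := MvPolynomial Idx k ⊗[k] k[X]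

noncomputable abbrev P : Over (Spec (CommRingCat.of k)) := Over.mk (CohB1.ProjSpace.toSpec 1 k)

/-- The chart of `P¹ × 𝔸¹`. -/
noncomputable def chartProd : Spec (CommRingCat.of (ChartRing k)) ⟶ (P k ⊗ line k).left :=
  (pullbackSpecIso k (MvPolynomial Idx k) k[X]).inv ≫
    pullback.map _ _ _ _ (ProjSpace.chart 1 k 0) (𝟙 _) (𝟙 _)
      (by rw [Category.comp_id]; exact (ProjSpace.chart_toSpec 1 k 0).symm)
      (by rw [Category.comp_id, Category.id_comp]; rfl)

instance : IsOpenImmersion (chartProd k) := by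
  unfold chartProd
  infer_instance

theorem chartProd_fst : chartProd k ≫ pullback.fst (P k).hom (line k).hom =
    Spec.map (CommRingCat.ofHom Algebra.TensorProduct.includeLeftRingHom) ≫ ProjSpace.chart 1 k 0 := by
  rw [chartProd, Category.assoc, pullback.lift_fst, pullbackSpecIso_inv_fst_assoc]

theorem chartProd_snd : chartProd k ≫ pullback.snd (P k).hom (line k).hom =
    Spec.map (CommRingCat.ofHom (Algebra.TensorProduct.includeRight : k[X] →ₐ[k] ChartRing k).toRingHom) := by
  rw [chartProd, Category.assoc, pullback.lift_snd, Category.comp_id, pullbackSpecIso_inv_snd]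
  rfl

/-- Multiplication `(x, T) ↦ x T`. -/
noncomputable def mulMap : k[X] →ₐ[k] ChartRing k :=
  aeval ((MvPolynomial.X ⟨1, by decide⟩ : MvPolynomial Idx k) ⊗ₜ[k] (X : k[X]))

variable [IsAlgClosed k]

theorem const_of_line (G : Over (Spec (CommRingCat.of k))) [GrpObj G] [IsProper G.hom] (f : line k ⟶ G) :
    f = toUnit _ ≫ linePt k 0 ≫ f := by
  haveI := isIntegral_projSpace 1 k
  haveI := isIntegral_projSpace 1 k[X]
  haveI : IsProper (P k).hom := ProjSpace.isProper_toSpec 1 k
  haveI : Smooth (P k).hom := ProjSpace.smooth_toSpec 1 k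
  haveI : Smooth (line k).hom := (HasRingHomProperty.Spec_iff (P := @Smooth)).2
    ((RingHom.smooth_algebraMap (R := k) (S := k[X])).2 (by constructor <;> infer_instance))
  haveI : LocallyOfFiniteType (line k).hom := inferInstance
  haveI : Smooth (pullback.fst (P k).hom (line k).hom) := inferInstance
  haveI : Smooth (P k ⊗ line k).hom := inferInstanceAs (Smooth (pullback.fst (P k).hom (line k).hom ≫ (P k).hom))
  haveI : IsIntegral (P k ⊗ line k).left := by
    let e : CohB1.ProjSpace 1 k[X] ≅ (P k ⊗ line k).left := (ProjSpace.isPullback_map 1 (algebraMap k k[X])).isoPullback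
    haveI : Nonempty (P k ⊗ line k).left := ⟨e.hom.base (genericPoint (CohB1.ProjSpace 1 k[X]))⟩
    exact isIntegral_of_isOpenImmersion e.inv
  haveI : IsIntegral (P k).left := isIntegral_projSpace 1 k
  haveI : Nonempty (Spec (CommRingCat.of (ChartRing k))) := by
    refine ⟨(Spec.map (CommRingCat.ofHom (Algebra.TensorProduct.productMap
      (MvPolynomial.aeval (fun _ => (0 : k))) (aeval (0 : k))).toRingHom)).base (IsLocalRing.closedPoint k)⟩
  let U : (P k ⊗ line k).left.Opens := (chartProd k).opensRange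
  have hU : Dense (U : Set (P k ⊗ line k).left) :=
    U.2.dense ⟨(chartProd k).base (Classical.arbitrary _), ⟨_, rfl⟩⟩
  let F : Spec (CommRingCat.of (ChartRing k)) ⟶ G.left :=
    Spec.map (CommRingCat.ofHom (mulMap k).toRingHom) ≫ f.left
  have hF : F ≫ G.hom = chartProd k ≫ (P k ⊗ line k).hom := by
    show (_ ≫ f.left) ≫ G.hom = chartProd k ≫ pullback.fst (P k).hom (line k).hom ≫ (P k).hom
    rw [← Category.assoc (chartProd k), chartProd_fst, Category.assoc, Category.assoc, Over.w f]
    show _ ≫ Spec.map _ = Spec.map _ ≫ ProjSpace.chart 1 k 0 ≫ CohB1.ProjSpace.toSpec 1 k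
    rw [ProjSpace.chart_toSpec, ← Spec.map_comp, ← Spec.map_comp, ← CommRingCat.ofHom_comp, ← CommRingCat.ofHom_comp]
    congr 2
    ext r
    simp [mulMap, Algebra.TensorProduct.algebraMap_apply, ← MvPolynomial.algebraMap_eq, Algebra.algebraMap_self]
    rfl
  obtain ⟨g₀, ⟨hg₀, hgF⟩, -⟩ := WeilExt.exists_extension_of_isProper (A := k) (P k ⊗ line k) G U hU
    ((chartProd k).isoOpensRange.inv ≫ F) (by
      rw [Category.assoc, hF, ← Category.assoc, Scheme.Hom.isoOpensRange_inv_comp])
  have hgF' : chartProd k ≫ g₀ = F := by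
    rw [← (chartProd k).isoOpensRange_hom_ι, Category.assoc, hgF, Iso.hom_inv_id_assoc]
  let g : P k ⊗ line k ⟶ G := Over.homMk g₀ hg₀
  have hsec : ∀ (a : k) (φ : MvPolynomial Idx k →ₐ[k] k[X]), φ = MvPolynomial.aeval (fun _ => C a) →
      Spec.map (CommRingCat.ofHom (Algebra.TensorProduct.productMap φ (AlgHom.id k k[X])).toRingHom) ≫
        chartProd k ≫ pullback.snd (P k).hom (line k).hom = 𝟙 _ := fun a φ _ => by
    rw [chartProd_snd, ← Spec.map_comp, ← CommRingCat.ofHom_comp, ← Spec.map_id]
    congr 2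
    ext r <;> simp
  -- the slice at `T = 0` is constant
  let x₀ : 𝟙_ (Over (Spec (CommRingCat.of k))) ⟶ P k :=
    Over.homMk (Spec.map (CommRingCat.ofHom (MvPolynomial.aeval (fun _ => (0 : k))).toRingHom) ≫ ProjSpace.chart 1 k 0) (by
      show (_ ≫ _) ≫ CohB1.ProjSpace.toSpec 1 k = 𝟙 _
      rw [Category.assoc, ProjSpace.chart_toSpec, ← Spec.map_comp, ← CommRingCat.ofHom_comp, ← Spec.map_id]
      congr 2
      ext r
      simp)
  have hslice : slice (linePt k 0) ≫ g = toUnit (P k) ≫ linePt k 0 ≫ f := by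
    ext1
    let e₀ : ChartRing k →ₐ[k] MvPolynomial Idx k :=
      Algebra.TensorProduct.productMap (AlgHom.id k _) ((Algebra.ofId k _).comp (aeval (0 : k)))
    haveI : IsDominant (ProjSpace.chart 1 k 0) := by
      refine ⟨(ProjSpace.chart 1 k 0).opensRange.2.dense ⟨(ProjSpace.chart 1 k 0).base ?_, ⟨_, rfl⟩⟩⟩
      exact (Spec.map (CommRingCat.ofHom (MvPolynomial.aeval (fun _ => (0 : k))).toRingHom)).base (IsLocalRing.closedPoint k)
    refine ext_of_isDominant_of_isSeparated G.hom ((Over.w _).trans (Over.w _).symm) (ProjSpace.chart 1 k 0) ?_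
    have h1 : ProjSpace.chart 1 k 0 ≫ (slice (X := P k) (linePt k 0)).left =
        Spec.map (CommRingCat.ofHom e₀.toRingHom) ≫ chartProd k := by
      apply pullback.hom_ext
      · rw [Category.assoc, Category.assoc, chartProd_fst, ← Category.assoc, ← Category.assoc, ← Spec.map_comp,
          ← CommRingCat.ofHom_comp]
        have e : (slice (X := P k) (linePt k 0)).left ≫ pullback.fst (P k).hom (line k).hom = 𝟙 _ :=
          congrArg (·.left) (lift_fst (𝟙 (P k)) _)
        rw [Category.assoc, e]
        refine (Category.comp_id (ProjSpace.chart 1 k 0)).trans ?_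
        conv_lhs => rw [← Category.id_comp (ProjSpace.chart 1 k 0), ← Spec.map_id]
        congr 3
        ext r <;> simp [e₀]
      · rw [Category.assoc, Category.assoc, chartProd_snd, ← Spec.map_comp, ← CommRingCat.ofHom_comp]
        have e : (slice (X := P k) (linePt k 0)).left ≫ pullback.snd (P k).hom (line k).hom =
            CohB1.ProjSpace.toSpec 1 k ≫ (linePt k 0).left :=
          congrArg (·.left) (lift_snd (𝟙 (P k)) (toUnit (P k) ≫ linePt k 0))
        rw [e, ProjSpace.chart_toSpec_assoc]
        show _ ≫ Spec.map _ = _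
        rw [← Spec.map_comp, ← CommRingCat.ofHom_comp]
        congr 2
        refine Polynomial.ringHom_ext (R := k) (fun r => ?_) ?_ <;>
          simp [e₀, -AddMonoidAlgebra.coe_algebraMap, MvPolynomial.algebraMap_eq]
    rw [Over.comp_left, reassoc_of% h1]
    show Spec.map _ ≫ chartProd k ≫ g₀ = ProjSpace.chart 1 k 0 ≫ CohB1.ProjSpace.toSpec 1 k ≫ (linePt k 0).left ≫ f.left
    rw [hgF', ProjSpace.chart_toSpec_assoc]
    show Spec.map _ ≫ Spec.map _ ≫ f.left = Spec.map _ ≫ Spec.map _ ≫ f.left
    rw [← Spec.map_comp_assoc, ← Spec.map_comp_assoc, ← CommRingCat.ofHom_comp, ← CommRingCat.ofHom_comp]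
    congr 3
    refine Polynomial.ringHom_ext (R := k) (fun r => ?_) ?_ <;>
      simp [e₀, mulMap, -AddMonoidAlgebra.coe_algebraMap, MvPolynomial.algebraMap_eq]
  have key := AbRigid.rigidity_of_isAlgClosed (P k) (line k) G g x₀ (linePt k 0) (linePt k 0 ≫ f) hslice
  have heval : ∀ a : k, (lift (toUnit (line k) ≫ x₀) (𝟙 _) ≫ g).left =
      Spec.map (CommRingCat.ofHom (aeval (C a * X) : k[X] →ₐ[k] k[X]).toRingHom) ≫ f.left := fun a => by
    let ψ := Algebra.TensorProduct.productMap (MvPolynomial.aeval (R := k) (fun _ : Idx => (C a : k[X]))) (AlgHom.id k k[X])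
    have h2 := congrArg (·.left) key
    have h3 := congrArg (fun t => Spec.map (CommRingCat.ofHom ψ.toRingHom) ≫ chartProd k ≫ t) h2
    change Spec.map _ ≫ chartProd k ≫ g₀ = Spec.map _ ≫ chartProd k ≫ pullback.snd (P k).hom (line k).hom ≫ _ at h3
    rw [reassoc_of% hsec a _ rfl, hgF'] at h3
    refine h3.symm.trans ?_
    show Spec.map _ ≫ Spec.map _ ≫ f.left = _
    rw [← Spec.map_comp_assoc, ← CommRingCat.ofHom_comp]
    congr 3
    ext r <;> simp [ψ, mulMap]
  have h01 := (heval 1).symm.trans (heval 0)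
  ext1
  calc f.left = Spec.map (CommRingCat.ofHom (aeval (C (1:k) * X) : k[X] →ₐ[k] k[X]).toRingHom) ≫ f.left := by
        simp
    _ = _ := h01
    _ = (toUnit (line k) ≫ linePt k 0 ≫ f).left := by
        show _ = Spec.map _ ≫ Spec.map _ ≫ f.left
        rw [← Spec.map_comp_assoc, ← CommRingCat.ofHom_comp]
        congr 3
        ext r <;> simp

end Line

end Groth.Agent.RegExt
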