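import Mathlib.AlgebraicGeometry.IdealSheaf.Subscheme
import Mathlib.AlgebraicGeometry.Properties
import Mathlib.AlgebraicGeometry.Morphisms.ClosedImmersion

/-!
# Scheme-theoretic images of integral schemes; finite sets of closed points
-/

set_option linter.style.haveILetI false

universe u

open CategoryTheory AlgebraicGeometry TopologicalSpace

namespace Groth.Agent.RegExt

theorem isReduced_image {X Y : Scheme.{u}} [IsReduced X] (f : X ⟶ Y) [QuasiCompact f] : IsReduced f.image := by
  haveI : ∀ U : Y.affineOpens, IsAffine (f.imageι ⁻¹ᵁ U.1).toScheme := fun U => U.2.preimage f.imageι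
  let 𝒰 := f.image.openCoverOfIsOpenCover (fun U : Y.affineOpens => f.imageι ⁻¹ᵁ U.1)
    ((show IsOpenCover (fun U : Y.affineOpens => U.1) from iSup_affineOpens_eq_top Y).comap f.imageι.base.hom)
  haveI : ∀ U, IsReduced (𝒰.X U) := fun U => by
    show IsReduced (f.imageι ⁻¹ᵁ U.1).toScheme
    haveI : _root_.IsReduced Γ(f.image, f.imageι ⁻¹ᵁ U.1) :=
      isReduced_of_injective (f.toImage.app (f.imageι ⁻¹ᵁ U.1)).hom (f.toImage_app_injective (U := U))
    haveI : _root_.IsReduced Γ((f.imageι ⁻¹ᵁ U.1).toScheme, ⊤) :=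
      isReduced_of_injective (f.imageι ⁻¹ᵁ U.1).topIso.commRingCatIsoToRingEquiv
        (f.imageι ⁻¹ᵁ U.1).topIso.commRingCatIsoToRingEquiv.injective
    haveI := this
    letI : IsAffine (f.imageι ⁻¹ᵁ U.1).toScheme := ‹∀ U : Y.affineOpens, IsAffine (f.imageι ⁻¹ᵁ U.1).toScheme› U
    exact isReduced_of_isOpenImmersion (f.imageι ⁻¹ᵁ U.1).toScheme.isoSpec.hom
  exact IsReduced.of_openCover _ 𝒰

theorem isIntegral_image {X Y : Scheme.{u}} [IsIntegral X] (f : X ⟶ Y) [QuasiCompact f] : IsIntegral f.image := by
  haveI := isReduced_image f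
  haveI : Nonempty f.image := ⟨f.toImage.base (Classical.arbitrary X)⟩
  haveI : IrreducibleSpace f.image := by
    have h : IsIrreducible (Set.univ : Set f.image) := by
      rw [← f.toImage.denseRange.closure_range, ← Set.image_univ]
      exact ((IrreducibleSpace.isIrreducible_univ X).image _ f.toImage.continuous.continuousOn).closure
    haveI : PreirreducibleSpace f.image := ⟨h.2⟩
    exact ⟨inferInstance⟩
  exact isIntegral_of_irreducibleSpace_of_isReduced _

/-- In a Noetherian sober space a closed set consisting of closed points is finite. -/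
theorem finite_of_forall_isClosed_singleton {α : Type*} [TopologicalSpace α] [NoetherianSpace α] [QuasiSober α]
    {s : Set α} (hs : IsClosed s) (h : ∀ x ∈ s, IsClosed ({x} : Set α)) : s.Finite := by
  obtain ⟨S, hSf, hSc, hSi, rfl⟩ := NoetherianSpace.exists_finite_set_isClosed_irreducible hs
  refine hSf.sUnion fun t ht => ?_
  obtain ⟨x, hx⟩ := QuasiSober.sober (hSi t ht) (hSc t ht)
  have : t = {x} := by
    rw [← hx.def]
    exact (h x (Set.mem_sUnion.2 ⟨t, ht, hx.def ▸ subset_closure rfl⟩)).closure_eq
  rw [this]; exact Set.finite_singleton x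

end Groth.Agent.RegExt
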