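import Groth.Agent.Lib.RegExt.Local
import Groth.Agent.Lib.WeilExt.Global

/-!
# Rational sections of abelian schemes over regular schemes are everywhere defined
-/

set_option linter.style.haveILetI false

universe u

open CategoryTheory Limits AlgebraicGeometry MonoidalCategory CartesianMonoidalCategory MonObj IsLocalRing TopologicalSpace

namespace Groth.Agent.RegExt

variable {R : CommRingCat.{u}}

/-- The affine case. -/
theorem exists_section_affine [IsLocallyNoetherian (Spec R)]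
    (hreg : ∀ x : Spec R, IsRegularLocalRing ((Spec R).presheaf.stalk x))
    (G : Over (Spec R)) [GrpObj G] [IsProper G.hom] [Smooth G.hom]
    (U : (Spec R).Opens) (hU : Dense (U : Set (Spec R))) (f : U.toScheme ⟶ G.left) (hf : f ≫ G.hom = U.ι) :
    ∃! g : Spec R ⟶ G.left, g ≫ G.hom = 𝟙 _ ∧ U.ι ≫ g = f := by
  let X : Over (Spec R) := Over.mk (𝟙 _)
  haveI : IsLocallyNoetherian X.left := ‹IsLocallyNoetherian (Spec R)›
  have hregX : ∀ x : X.left, IsRegularLocalRing (X.left.presheaf.stalk x) := hreg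
  have hdom : ∀ x : X.left, IsDomain (X.left.presheaf.stalk x) := fun x =>
    haveI := hregX x
    RegLoc.isDomain _
  haveI := hdom
  haveI : IsReduced X.left := isReduced_of_isReduced_stalk _
  have hf' : f ≫ G.hom = U.ι ≫ X.hom := hf.trans (Category.comp_id _).symm
  have hloc : ∀ x : X.left, ∃ (V : X.left.Opens) (g : (V : Scheme.{u}) ⟶ G.left), x ∈ V ∧ g ≫ G.hom = V.ι ≫ X.hom ∧
      X.left.homOfLE (inf_le_right : U ⊓ V ≤ V) ≫ g = X.left.homOfLE (inf_le_left : U ⊓ V ≤ U) ≫ f := by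
    intro x
    haveI := hregX x
    haveI := hdom x
    haveI : IsDomain ((Spec R).presheaf.stalk x) := hdom x
    let O := X.left.presheaf.stalk x
    have hmem : WeilExt.genOf x ∈ U := (WeilExt.isMaxPt_genOf x).mem_of_dense U.2 hU
    let l : Spec (CommRingCat.of (FractionRing O)) ⟶ (U : Scheme.{u}) :=
      IsOpenImmersion.lift U.ι (WeilExt.genι x) (by
        rw [Scheme.Opens.range_ι]; rintro - ⟨z, rfl⟩
        rw [WeilExt.genι_apply]; exact hmem)
    have hl : l ≫ U.ι = WeilExt.genι x := IsOpenImmersion.lift_fac _ _ _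
    let G' := (Over.pullback (X.left.fromSpecStalk x)).obj G
    letI : GrpObj G' := Functor.grpObjObj
    haveI : IsProper G'.hom := by dsimp [G']; infer_instance
    haveI : Smooth G'.hom := by dsimp [G']; infer_instance
    have hlf : (l ≫ f) ≫ G.hom = Spec.map (WeilExt.toFF O) ≫ X.left.fromSpecStalk x := by
      rw [Category.assoc, hf, hl]; rfl
    obtain ⟨g, hg, hgγ⟩ := extends_of_isRegularLocalRing O (FractionRing O) G'
      (pullback.lift (l ≫ f) (Spec.map (WeilExt.toFF O)) hlf) (pullback.lift_snd _ _ _)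
    have hσ : (g ≫ pullback.fst G.hom (X.left.fromSpecStalk x)) ≫ G.hom = Spec.map (WeilExt.rStalk X.hom x) := by
      rw [WeilExt.rStalk_spec, Category.assoc, pullback.condition, ← Category.assoc]
      exact (congrArg (· ≫ X.left.fromSpecStalk x) hg).trans ((Category.id_comp _).trans (Category.comp_id _).symm)
    refine WeilExt.exists_local_of_stalk_extension X G hdom U f hf' x
      (Over.homMk (g ≫ pullback.fst G.hom (X.left.fromSpecStalk x)) hσ) l hl ?_
    show Spec.map (WeilExt.toFF O) ≫ g ≫ pullback.fst _ _ = l ≫ f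
    rw [reassoc_of% hgγ, pullback.lift_fst]
  choose V g hxV hgS hgf using hloc
  exact WeilExt.exists_glue X G U hU f V (fun x => ⟨x, hxV x⟩) g hgS hgf

/-- **A rational section of a smooth proper group scheme over a regular scheme is everywhere defined.** -/
theorem exists_section {X : Scheme.{u}} [IsLocallyNoetherian X]
    (hreg : ∀ x : X, IsRegularLocalRing (X.presheaf.stalk x))
    (G : Over X) [GrpObj G] [IsProper G.hom] [Smooth G.hom]
    (U : X.Opens) (hU : Dense (U : Set X)) (f : U.toScheme ⟶ G.left) (hf : f ≫ G.hom = U.ι) :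
    ∃ g : X ⟶ G.left, g ≫ G.hom = 𝟙 _ ∧ U.ι ≫ g = f := by
  haveI : ∀ x : X, IsDomain (X.presheaf.stalk x) := fun x => haveI := hreg x; RegLoc.isDomain _
  haveI : IsReduced X := isReduced_of_isReduced_stalk _
  haveI : IsDominant U.ι := ⟨by rw [DenseRange, Scheme.Opens.range_ι]; exact hU⟩
  let 𝒰₀ := X.affineOpenCover
  let 𝒰 := 𝒰₀.openCover
  have key : ∀ i, ∃ g : Spec (𝒰₀.X i) ⟶ G.left, g ≫ G.hom = 𝒰₀.f i ∧ (𝒰₀.f i ⁻¹ᵁ U).ι ≫ g = (𝒰₀.f i ∣_ U) ≫ f := by
    intro i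
    let G' := (Over.pullback (𝒰₀.f i)).obj G
    letI : GrpObj G' := Functor.grpObjObj
    haveI : IsProper G'.hom := by dsimp [G']; infer_instance
    haveI : Smooth G'.hom := by dsimp [G']; infer_instance
    haveI : IsLocallyNoetherian (Spec (𝒰₀.X i)) := isLocallyNoetherian_of_isOpenImmersion (𝒰₀.f i)
    obtain ⟨g, ⟨hg, hgf⟩, -⟩ := exists_section_affine (fun x => haveI := hreg ((𝒰₀.f i).base x)
        IsRegularLocalRing.of_ringEquiv (asIso ((𝒰₀.f i).stalkMap x)).commRingCatIsoToRingEquiv)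
      G' (𝒰₀.f i ⁻¹ᵁ U) (hU.preimage (𝒰₀.f i).isOpenEmbedding.isOpenMap)
      (pullback.lift ((𝒰₀.f i ∣_ U) ≫ f) (𝒰₀.f i ⁻¹ᵁ U).ι (by rw [Category.assoc, hf, morphismRestrict_ι]))
      (pullback.lift_snd _ _ _)
    refine ⟨g ≫ pullback.fst G.hom (𝒰₀.f i), ?_, ?_⟩
    · rw [Category.assoc, pullback.condition, ← Category.assoc]
      exact (congrArg (· ≫ 𝒰₀.f i) hg).trans (Category.id_comp _)
    · rw [reassoc_of% hgf, pullback.lift_fst]
  have key' : ∀ i : 𝒰.I₀, ∃ g : 𝒰.X i ⟶ G.left, g ≫ G.hom = 𝒰.f i ∧ (𝒰.f i ⁻¹ᵁ U).ι ≫ g = (𝒰.f i ∣_ U) ≫ f := key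
  choose g hgS hgf using key'
  have hagree : ∀ i j, pullback.fst (𝒰.f i) (𝒰.f j) ≫ g i = pullback.snd (𝒰.f i) (𝒰.f j) ≫ g j := fun i j => by
    let T := pullback (𝒰.f i) (𝒰.f j)
    let t : T ⟶ X := pullback.fst _ _ ≫ 𝒰.f i
    haveI : IsOpenImmersion t := inferInstance
    haveI : IsReduced T := isReduced_of_isOpenImmersion t
    haveI : IsDominant (t ⁻¹ᵁ U).ι :=
      ⟨by rw [DenseRange, Scheme.Opens.range_ι]; exact hU.preimage t.isOpenEmbedding.isOpenMap⟩
    refine ext_of_isDominant_of_isSeparated G.hom (by simp [hgS, pullback.condition]) (t ⁻¹ᵁ U).ι ?_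
    have e : ∀ (k) (q : T ⟶ 𝒰.X k) (hq : q ≫ 𝒰.f k = t), (t ⁻¹ᵁ U).ι ≫ q ≫ g k = (t ∣_ U) ≫ f := fun k q hq => by
      have hle : ∀ z : (t ⁻¹ᵁ U).toScheme, q.base ((t ⁻¹ᵁ U).ι.base z) ∈ 𝒰.f k ⁻¹ᵁ U := fun z => by
        show (𝒰.f k).base (q.base _) ∈ U
        rw [← Scheme.Hom.comp_apply, hq]
        exact z.2
      let q' : (t ⁻¹ᵁ U).toScheme ⟶ (𝒰.f k ⁻¹ᵁ U).toScheme := IsOpenImmersion.lift (𝒰.f k ⁻¹ᵁ U).ι
        ((t ⁻¹ᵁ U).ι ≫ q) (by rw [Scheme.Opens.range_ι]; rintro - ⟨z, rfl⟩; exact hle z)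
      have hq' : q' ≫ (𝒰.f k ⁻¹ᵁ U).ι = (t ⁻¹ᵁ U).ι ≫ q := IsOpenImmersion.lift_fac _ _ _
      have hq'' : q' ≫ (𝒰.f k ∣_ U) = t ∣_ U := by
        rw [← cancel_mono U.ι, Category.assoc, morphismRestrict_ι, reassoc_of% hq', hq, morphismRestrict_ι]
      rw [← reassoc_of% hq', hgf, reassoc_of% hq'']
    rw [e i _ rfl, e j _ pullback.condition.symm]
  refine ⟨𝒰.glueMorphisms g hagree, 𝒰.hom_ext _ _ fun i => ?_, ?_⟩
  · rw [𝒰.ι_glueMorphisms_assoc, hgS, Category.comp_id]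
  · refine Scheme.Cover.hom_ext (𝒰.pullback₁ U.ι) _ _ fun i => ?_
    revert i
    show ∀ i : 𝒰.I₀, _
    intro i
    show pullback.fst U.ι (𝒰.f i) ≫ U.ι ≫ _ = pullback.fst U.ι (𝒰.f i) ≫ f
    rw [pullback.condition_assoc, 𝒰.ι_glueMorphisms]
    let e := (pullbackSymmetry U.ι (𝒰.f i)) ≪≫ pullbackRestrictIsoRestrict (𝒰.f i) U
    have he : e.hom ≫ (𝒰.f i ⁻¹ᵁ U).ι = pullback.snd U.ι (𝒰.f i) := by simp [e]
    have he' : e.hom ≫ (𝒰.f i ∣_ U) = pullback.fst U.ι (𝒰.f i) := by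
      rw [← cancel_mono U.ι, Category.assoc, morphismRestrict_ι, reassoc_of% he, pullback.condition]
    rw [← he, Category.assoc, hgf, reassoc_of% he']

end Groth.Agent.RegExt
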