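import Groth.Agent.Lib.RegLoc.Basic
import Mathlib.RingTheory.Valuation.ValuationRing
import Mathlib.RingTheory.UniqueFactorizationDomain.Basic
import Mathlib.RingTheory.Polynomial.Basic
import Mathlib.FieldTheory.IntermediateField.Adjoin.Defs
import Mathlib.RingTheory.Algebraic.Integral
import Mathlib.RingTheory.LocalRing.ResidueField.Basic
import Mathlib.RingTheory.Localization.AtPrime.Basic
import Mathlib.RingTheory.Ideal.Height
import Mathlib.FieldTheory.AlgebraicClosure

set_option linter.style.haveILetI false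

/-!
# Divisorial valuations of two-dimensional regular local rings have ruled residue fields
-/

open IsLocalRing Polynomial

namespace Groth.Agent.RegExt

universe u

/-- A polynomial vanishing at `y / x` has coefficients in the maximal ideal, for `x, y` a regular system of
parameters. -/
theorem coeff_mem_of_eval₂_eq_zero {O V : Type u} [CommRing O] [IsLocalRing O] [CommRing V] (φ : O →+* V)
    (hφ : Function.Injective φ) {x y : O} (hxm : x ∈ maximalIdeal O) (hym : y ∈ maximalIdeal O)
    (hp : (Ideal.span ({x} : Set O)).IsPrime) (hy : y ∉ Ideal.span ({x} : Set O))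
    {w : V} (hw : φ y = φ x * w) (F : O[X]) (hF : F.eval₂ φ w = 0) (i : ℕ) :
    F.coeff i ∈ maximalIdeal O := by
  suffices ∀ d : ℕ, ∀ F : O[X], F.natDegree ≤ d → F.eval₂ φ w = 0 → ∀ i, F.coeff i ∈ maximalIdeal O from
    this F.natDegree F le_rfl hF i
  intro d
  induction d with
  | zero =>
    intro F hd hF i
    rw [eq_C_of_natDegree_le_zero hd, eval₂_C] at hF
    have h0 : F.coeff 0 = 0 := hφ (by rw [hF, map_zero])
    cases i with
    | zero => rw [h0]; exact zero_mem _
    | succ i => rw [coeff_eq_zero_of_natDegree_lt (by omega)]; exact zero_mem _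
  | succ d ih =>
    intro F hd hF i
    set S := ∑ j ∈ Finset.range (d + 2), F.coeff j * y ^ j * x ^ (d + 1 - j) with hS
    have hS0 : S = 0 := by
      apply hφ
      rw [map_zero, hS, map_sum]
      calc ∑ j ∈ Finset.range (d + 2), φ (F.coeff j * y ^ j * x ^ (d + 1 - j))
          = ∑ j ∈ Finset.range (d + 2), φ x ^ (d + 1) * (φ (F.coeff j) * w ^ j) := Finset.sum_congr rfl fun j hj => by
            have : d + 1 = j + (d + 1 - j) := by have := Finset.mem_range.1 hj; omega
            conv_rhs => rw [this, pow_add]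
            rw [map_mul, map_mul, map_pow, map_pow, hw, mul_pow]
            ring
        _ = φ x ^ (d + 1) * F.eval₂ φ w := by
            rw [eval₂_eq_sum_range' φ (Nat.lt_succ_of_le hd), Finset.mul_sum]
        _ = 0 := by rw [hF, mul_zero]
    have hc : F.coeff (d + 1) * y ^ (d + 1) ∈ Ideal.span ({x} : Set O) := by
      rw [hS, Finset.sum_range_succ, Nat.sub_self, pow_zero, mul_one] at hS0
      rw [eq_neg_of_add_eq_zero_right hS0]
      refine neg_mem (Ideal.sum_mem _ fun j hj => Ideal.mul_mem_left _ _ ?_)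
      exact Ideal.pow_mem_of_mem _ (Ideal.mem_span_singleton_self x) _ (by have := Finset.mem_range.1 hj; omega)
    obtain ⟨c', hc'⟩ := Ideal.mem_span_singleton'.1
      ((hp.mem_or_mem hc).resolve_right fun h => hy (hp.mem_of_pow_mem _ h))
    set F' := F - C (F.coeff (d + 1)) * X ^ (d + 1) + C (c' * y) * X ^ d with hF'
    have hd' : F'.natDegree ≤ d := by
      rw [natDegree_le_iff_coeff_eq_zero]
      intro N hN
      rcases Nat.lt_or_ge (d + 1) N with h | h
      · simp only [hF', coeff_add, coeff_sub, coeff_C_mul_X_pow, coeff_eq_zero_of_natDegree_lt (by omega : F.natDegree < N),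
          if_neg (show N ≠ d + 1 by omega), if_neg (show N ≠ d by omega), sub_zero, add_zero]
      · obtain rfl : N = d + 1 := by omega
        simp only [hF', coeff_add, coeff_sub, coeff_C_mul_X_pow, if_pos, if_neg (show d + 1 ≠ d by omega), sub_self, add_zero]
    have hF'0 : F'.eval₂ φ w = 0 := by
      simp only [hF', eval₂_add, eval₂_sub, eval₂_mul, eval₂_C, eval₂_X_pow, hF, zero_sub]
      rw [← hc', map_mul, map_mul, hw, pow_succ]
      ring
    have h := ih F' hd' hF'0 i
    have hcm : F.coeff (d + 1) ∈ maximalIdeal O := hc' ▸ Ideal.mul_mem_left _ c' hxm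
    have hcy : c' * y ∈ maximalIdeal O := Ideal.mul_mem_left _ c' hym
    have e : F.coeff i = F'.coeff i + (C (F.coeff (d + 1)) * X ^ (d + 1)).coeff i - (C (c' * y) * X ^ d).coeff i := by
      rw [hF', coeff_add, coeff_sub]; ring
    rw [e, coeff_C_mul_X_pow, coeff_C_mul_X_pow]
    refine sub_mem (add_mem h ?_) ?_ <;> split_ifs
    exacts [hcm, zero_mem _, hcy, zero_mem _]

variable {V : Type u} [CommRing V] [IsDomain V] [ValuationRing V] [IsNoetherianRing V]
  (k₀ : Type u) [Field k₀] [Algebra k₀ (ResidueField V)]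

/-- **Abhyankar**: a divisorial valuation of a two-dimensional regular local ring has a residue field which
is a rational function field over an algebraic extension of the residue field. -/
theorem residueField_ruled (b' : V) : ∀ (O : Type u) [CommRing O] [IsRegularLocalRing O] (φ : O →+* V) [IsLocalHom φ],
    Function.Injective φ → (maximalIdeal O).spanFinrank = 2 →
    (∀ z : V, ∃ a c : O, c ≠ 0 ∧ z * φ c = φ a) →
    (∀ o, IsAlgebraic k₀ (residue V (φ o))) →
    ∀ (a b : O) (u : V), b ≠ 0 → φ b = b' → φ a = u * φ b → Transcendental k₀ (residue V u) →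
    ∃ t : ResidueField V, Transcendental k₀ t ∧
      ∀ z, z ∈ IntermediateField.adjoin (algebraicClosure k₀ (ResidueField V)) ({t} : Set (ResidueField V)) := by
  induction b' using (wellFounded_dvdNotUnit (α := V)).induction with
  | _ b' ih =>
  intro O _ _ φ _ hφ hdim hfrac halg a b u hb0 hbb hau hu
  haveI := RegLoc.isDomain O
  set L := algebraicClosure k₀ (ResidueField V) with hL
  have hresm : ∀ o : O, residue V (φ o) = 0 ↔ o ∈ maximalIdeal O := fun o => by
    rw [residue_eq_zero_iff, mem_maximalIdeal, mem_maximalIdeal, mem_nonunits_iff, mem_nonunits_iff, isUnit_map_iff]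
  have hbm : b ∈ maximalIdeal O := by
    by_contra h
    obtain ⟨c, hc⟩ : IsUnit b := by simpa [mem_maximalIdeal] using h
    apply hu
    have : u = φ (a * ↑c⁻¹) := by
      rw [map_mul, hau, mul_assoc, ← map_mul, ← hc, Units.mul_inv, map_one, mul_one]
    rw [this]
    exact halg _
  have ham : a ∈ maximalIdeal O := by
    rw [← hresm, hau, map_mul, (hresm b).2 hbm, mul_zero]
  -- parameters
  obtain ⟨x, y, hxy, hdiv⟩ : ∃ x y : O, Ideal.span ({x, y} : Set O) = maximalIdeal O ∧ φ x ∣ φ y := by
    have hfg := IsNoetherian.noetherian (maximalIdeal O)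
    have hcard := Submodule.FG.generators_ncard hfg
    rw [hdim] at hcard
    obtain ⟨x, y, -, hs⟩ := Set.ncard_eq_two.1 hcard
    have := (maximalIdeal O).span_generators
    rw [hs] at this
    rcases ValuationRing.dvd_total (φ x) (φ y) with h | h
    · exact ⟨x, y, this, h⟩
    · exact ⟨y, x, by rw [Set.pair_comm]; exact this, h⟩
  have hxm : x ∈ maximalIdeal O := hxy ▸ Ideal.subset_span (by simp)
  have hym : y ∈ maximalIdeal O := hxy ▸ Ideal.subset_span (by simp)
  have hyx : y ∉ Ideal.span ({x} : Set O) := fun h => by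
    have hle : maximalIdeal O = Ideal.span ({x} : Set O) :=
      le_antisymm (hxy ▸ Ideal.span_le.2 (by rintro z (rfl | rfl); exacts [Ideal.mem_span_singleton_self _, h]))
        ((Ideal.span_singleton_le_iff_mem _).2 hxm)
    have : (maximalIdeal O).spanFinrank ≤ 1 := by
      rw [hle]
      exact (Submodule.spanFinrank_span_le_ncard_of_finite (Set.finite_singleton x)).trans (Set.ncard_singleton x).le
    omega
  have hx2 : x ∉ maximalIdeal O ^ 2 :=
    RegLoc.notMem_sq_of_span_range (n := 1) ![x, y] (by rw [Matrix.range_cons_cons_empty]; exact hxy) hdim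
  have hx0 : x ≠ 0 := fun h => hx2 (h ▸ zero_mem _)
  have hpx : (Ideal.span ({x} : Set O)).IsPrime := by
    obtain ⟨_, -⟩ := RegLoc.quotient_span_singleton hxm hx2
    haveI := RegLoc.isDomain (O ⧸ Ideal.span ({x} : Set O))
    exact (Ideal.Quotient.isDomain_iff_prime _).1 inferInstance
  obtain ⟨w, hw⟩ := hdiv
  have hφx : φ x ≠ 0 := (map_ne_zero_iff _ hφ).2 hx0
  have hφxm : residue V (φ x) = 0 := (hresm x).2 hxm
  -- the affine chart of the blow-up
  set Φ : O[X] →+* V := eval₂RingHom φ w with hΦ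
  have hΦm : ∀ F : O[X], (∀ i, F.coeff i ∈ maximalIdeal O) → ∃ G, Φ F = φ x * Φ G := by
    intro F hF
    have hmem : F ∈ (maximalIdeal O).map (C : O →+* O[X]) := Ideal.mem_map_C_iff.2 hF
    rw [← hxy, Ideal.map_span, Set.image_pair, Ideal.mem_span_pair] at hmem
    obtain ⟨G₁, G₂, rfl⟩ := hmem
    exact ⟨G₁ + G₂ * X, by simp [hΦ, hw]; ring⟩
  set ι : ResidueField O →+* ResidueField V := ResidueField.map φ with hι
  set τ := residue V w with hτ
  have hres : ∀ F : O[X], residue V (Φ F) = (F.map (residue O)).eval₂ ι τ := fun F => by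
    rw [eval₂_map, hΦ, coe_eval₂RingHom, hom_eval₂]
    congr 1
  set I := RingHom.ker (eval₂RingHom ι τ) with hI
  have hιL : ∀ c, ι c ∈ L := fun c => by
    obtain ⟨o, rfl⟩ := residue_surjective c
    exact mem_algebraicClosure_iff.2 (halg o) 
  obtain ⟨G₀, hG₀⟩ := hΦm (C a) (fun i => by rw [coeff_C]; split_ifs <;> simp [ham])
  obtain ⟨G₁, hG₁⟩ := hΦm (C b) (fun i => by rw [coeff_C]; split_ifs <;> simp [hbm])
  have hΦC : ∀ c, Φ (C c) = φ c := fun c => by simp [hΦ]
  rw [hΦC] at hG₀ hG₁
  have hau₁ : Φ G₀ = u * Φ G₁ := mul_left_cancel₀ hφx (by rw [← hG₀, hau, hG₁]; ring)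
  by_cases hbot : I = ⊥
  · -- the centre is the exceptional divisor
    have hkey : ∀ F : O[X], residue V (Φ F) = 0 → ∃ G, Φ F = φ x * Φ G := fun F hF => hΦm F fun i => by
      have : F.map (residue O) ∈ I := by rw [hI, RingHom.mem_ker, coe_eval₂RingHom, ← hres, hF]
      rw [hbot, Ideal.mem_bot] at this
      rw [← residue_eq_zero_iff, ← coeff_map, this, coeff_zero]
    have hz : ∀ z : V, residue V z ∈ IntermediateField.adjoin L ({τ} : Set (ResidueField V)) := by
      intro z
      obtain ⟨c₁, c₂, hc₂, hz⟩ := hfrac z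
      suffices ∀ q : V, ∀ P Q : O[X], Φ Q = q → q ≠ 0 → z * q = Φ P →
          residue V z ∈ IntermediateField.adjoin L ({τ} : Set (ResidueField V)) from
        this (φ c₂) (C c₁) (C c₂) (hΦC _) ((map_ne_zero_iff _ hφ).2 hc₂) (by rw [hΦC, hz])
      intro q
      induction q using (wellFounded_dvdNotUnit (α := V)).induction with
      | _ q ihq =>
      intro P Q hQ hq0 hzq
      have hmem : ∀ F : O[X], residue V (Φ F) ∈ IntermediateField.adjoin L ({τ} : Set (ResidueField V)) := fun F => by
        rw [hres, eval₂_eq_sum]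
        refine sum_mem fun i _ => mul_mem ?_ (pow_mem (IntermediateField.mem_adjoin_simple_self L τ) i)
        exact IntermediateField.algebraMap_mem (IntermediateField.adjoin L ({τ} : Set (ResidueField V))) ⟨_, hιL _⟩
      by_cases hQ0 : residue V q = 0
      · obtain ⟨Q', hQ'⟩ := hkey Q (by rw [hQ, hQ0])
        obtain ⟨P', hP'⟩ := hkey P (by rw [← hzq, map_mul, hQ0, mul_zero])
        rw [hQ] at hQ'
        have hne : Φ Q' ≠ 0 := fun h => hq0 (by rw [hQ', h, mul_zero])
        refine ihq (Φ Q') ⟨hne, φ x, ?_, by rw [hQ', mul_comm]⟩ P' Q' rfl hne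
          (mul_left_cancel₀ hφx (by rw [← hP', ← hzq, hQ']; ring))
        intro h
        exact (h.map (residue V)).ne_zero hφxm
      · have e : residue V z = residue V (Φ P) * (residue V (Φ Q))⁻¹ := by
          rw [← hzq, map_mul, hQ, mul_assoc, mul_inv_cancel₀ hQ0, mul_one]
        rw [e]
        exact mul_mem (hmem P) (inv_mem (hmem Q))
    refine ⟨τ, fun halgτ => hu ?_, fun z => ?_⟩
    · have hle : IntermediateField.adjoin L ({τ} : Set (ResidueField V)) = ⊥ := by
        rw [IntermediateField.adjoin_simple_eq_bot_iff, IntermediateField.mem_bot]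
        exact ⟨⟨τ, mem_algebraicClosure_iff.2 halgτ⟩, rfl⟩
      have := hz u
      rw [hle, IntermediateField.mem_bot] at this
      obtain ⟨l, hl⟩ := this
      rw [← hl]
      exact mem_algebraicClosure_iff.1 l.2
    · obtain ⟨v, rfl⟩ := residue_surjective z
      exact hz v
  · -- the centre is a closed point of the exceptional divisor
    obtain ⟨g, hg⟩ := IsPrincipalIdealRing.principal I
    have hg0 : g ≠ 0 := fun h => hbot (by rw [hg, h]; simp)
    have hτalg : IsAlgebraic k₀ τ := by
      have h0 : eval₂ ι τ g = 0 := by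
        have : g ∈ I := hg ▸ Submodule.mem_span_singleton_self g
        rwa [hI, RingHom.mem_ker, coe_eval₂RingHom] at this
      have hL' : IsAlgebraic L τ := by
        refine ⟨g.map (ι.codRestrict L hιL), (Polynomial.map_ne_zero_iff (RingHom.injective _)).2 hg0, ?_⟩
        rw [aeval_def, eval₂_map]
        exact h0
      haveI : Algebra.IsAlgebraic k₀ L := algebraicClosure.isAlgebraic k₀ (ResidueField V)
      exact hL'.restrictScalars k₀
    have halgΦ : ∀ F : O[X], IsAlgebraic k₀ (residue V (Φ F)) := fun F => by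
      rw [← mem_algebraicClosure_iff, hres, eval₂_eq_sum]
      exact sum_mem fun i _ => mul_mem (hιL _) (pow_mem (mem_algebraicClosure_iff.2 hτalg) i)
    let B := Φ.range
    have hsurj : Function.Surjective Φ.rangeRestrict := Φ.rangeRestrict_surjective
    let Q : Ideal B := (maximalIdeal V).comap B.subtype
    haveI : Q.IsPrime := Ideal.IsPrime.comap _
    let O₁ := Localization.AtPrime Q
    have hker : RingHom.ker Φ.rangeRestrict ≤ RingHom.ker (mapRingHom (residue O)) := fun F hF => by
      rw [RingHom.mem_ker] at hF ⊢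
      ext i
      rw [coe_mapRingHom, coeff_map, coeff_zero, residue_eq_zero_iff]
      exact coeff_mem_of_eval₂_eq_zero φ hφ hxm hym hpx hyx hw F (congrArg Subtype.val hF) i
    let ψ : B →+* (ResidueField O)[X] := Φ.rangeRestrict.liftOfSurjective hsurj ⟨mapRingHom (residue O), hker⟩
    have hψ : ∀ F, ψ (Φ.rangeRestrict F) = F.map (residue O) := fun F =>
      RingHom.liftOfRightInverse_comp_apply _ _ _ _ F
    let P : Ideal B := RingHom.ker ψ
    haveI : P.IsPrime := RingHom.ker_isPrime ψ
    obtain ⟨g', hg'⟩ := Polynomial.map_surjective (residue O) residue_surjective g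
    let xB : B := Φ.rangeRestrict (C x)
    let gB : B := Φ.rangeRestrict g'
    have hmemQ : ∀ F, Φ.rangeRestrict F ∈ Q ↔ F.map (residue O) ∈ I := fun F => by
      rw [hI, RingHom.mem_ker, coe_eval₂RingHom, ← hres, residue_eq_zero_iff]; rfl
    have hPQ : P < Q := by
      refine lt_of_le_of_ne (fun z hz => ?_) (fun h => hg0 ?_)
      · obtain ⟨F, rfl⟩ := hsurj z
        rw [RingHom.mem_ker, hψ] at hz
        rw [hmemQ, hz]; exact zero_mem _
      · have : gB ∈ Q := by rw [hmemQ, hg', hg]; exact Submodule.mem_span_singleton_self g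
        rw [← h, RingHom.mem_ker, hψ, hg'] at this
        exact this
    have hbotP : ⊥ < P := by
      refine bot_lt_iff_ne_bot.2 fun h => hφx ?_
      have : xB ∈ P := by rw [RingHom.mem_ker, hψ, Polynomial.map_C, (residue_eq_zero_iff x).2 hxm, C_0]
      rw [h, Ideal.mem_bot] at this
      simpa [xB, hΦ] using congrArg Subtype.val this
    have hQspan : Q ≤ Ideal.span ({xB, gB} : Set B) := fun z hz => by
      obtain ⟨F, rfl⟩ := hsurj z
      rw [hmemQ, hg] at hz
      obtain ⟨h, hh⟩ := Ideal.mem_span_singleton'.1 hz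
      obtain ⟨h', rfl⟩ := Polynomial.map_surjective (residue O) residue_surjective h
      obtain ⟨G, hG⟩ := hΦm (F - h' * g') fun i => by
        rw [← residue_eq_zero_iff, ← coeff_map, Polynomial.map_sub, Polynomial.map_mul, hg', hh, sub_self, coeff_zero]
      rw [Ideal.mem_span_pair]
      refine ⟨Φ.rangeRestrict G, Φ.rangeRestrict h', Subtype.ext ?_⟩
      show Φ G * Φ (C x) + Φ h' * Φ g' = Φ F
      rw [hΦC, mul_comm (Φ G), ← hG, map_sub, map_mul, sub_add_cancel]
    have hxgQ : Ideal.span ({xB, gB} : Set B) ≤ Q := Ideal.span_le.2 (by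
      rintro z (rfl | rfl)
      · show Φ (C x) ∈ maximalIdeal V
        rw [hΦC]; exact (residue_eq_zero_iff _).1 hφxm
      · show gB ∈ Q
        rw [hmemQ, hg', hg]; exact Submodule.mem_span_singleton_self g)
    haveI : IsNoetherianRing B := inferInstance
    haveI : IsNoetherianRing O₁ := IsLocalization.isNoetherianRing Q.primeCompl _ inferInstance
    have hmax : maximalIdeal O₁ = Ideal.span ({algebraMap B O₁ xB, algebraMap B O₁ gB} : Set O₁) := by
      rw [← Localization.AtPrime.map_eq_maximalIdeal]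
      refine (congrArg (Ideal.map _) (le_antisymm hQspan hxgQ)).trans ?_
      rw [Ideal.map_span, Set.image_pair]
    have hfin : (maximalIdeal O₁).spanFinrank ≤ 2 := by
      rw [hmax]
      exact (Submodule.spanFinrank_span_le_ncard_of_finite (Set.toFinite _)).trans
        ((Set.ncard_insert_le _ _).trans (by simp))
    have hdim2 : (2 : WithBot ℕ∞) ≤ ringKrullDim O₁ := by
      rw [IsLocalization.AtPrime.ringKrullDim_eq_height Q O₁]
      have h1 := Ideal.height_strict_mono_of_isPrime_of_isPrime hbotP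
      have h2 := Ideal.height_strict_mono_of_isPrime_of_isPrime hPQ
      have h1' : (1 : ℕ∞) ≤ P.height := Order.one_le_iff_pos.2 (lt_of_le_of_lt zero_le h1)
      have h2' : (2 : ℕ∞) ≤ Q.height := by
        have := Order.add_one_le_of_lt (lt_of_le_of_lt h1' h2)
        rwa [show (1 : ℕ∞) + 1 = 2 from rfl] at this
      exact WithBot.coe_le_coe.2 h2'
    haveI : IsRegularLocalRing O₁ := IsRegularLocalRing.of_spanFinrank_maximalIdeal_le _
      ((Nat.cast_le.2 hfin).trans hdim2)
    have hdim₁ : (maximalIdeal O₁).spanFinrank = 2 := by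
      refine le_antisymm hfin ?_
      rw [← IsRegularLocalRing.spanFinrank_maximalIdeal] at hdim2
      exact_mod_cast hdim2
    have hunit : ∀ s : Q.primeCompl, IsUnit (B.subtype s) := fun s => by
      exact not_not.1 (s.2 : (s : B) ∉ Q)
    let φ₁ : O₁ →+* V := IsLocalization.lift hunit
    have hφ₁ : ∀ F, φ₁ (algebraMap B O₁ (Φ.rangeRestrict F)) = Φ F := fun F => IsLocalization.lift_eq hunit _
    have hrep : ∀ z : O₁, ∃ (c : O[X]) (s : O[X]) (_ : Φ.rangeRestrict s ∈ Q.primeCompl),
        z * algebraMap B O₁ (Φ.rangeRestrict s) = algebraMap B O₁ (Φ.rangeRestrict c) := fun z => by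
      obtain ⟨⟨c, ⟨s, hs⟩⟩, h⟩ := IsLocalization.surj Q.primeCompl z
      obtain ⟨c', rfl⟩ := hsurj c
      obtain ⟨s', rfl⟩ := hsurj s
      exact ⟨c', s', hs, h⟩
    haveI : IsLocalHom φ₁ := ⟨fun z hz => by
      obtain ⟨c, s, hs, h⟩ := hrep z
      have h' := congrArg φ₁ h
      rw [map_mul, hφ₁, hφ₁] at h'
      have hcu : IsUnit (algebraMap B O₁ (Φ.rangeRestrict c)) := IsLocalization.map_units O₁
        (⟨Φ.rangeRestrict c, fun hc => ?_⟩ : Q.primeCompl)
      · exact isUnit_of_mul_isUnit_left (h ▸ hcu)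
      · have : IsUnit (Φ c) := h' ▸ hz.mul (hunit ⟨_, hs⟩)
        exact hc this⟩
    have hinj₁ : Function.Injective φ₁ := by
      rw [injective_iff_map_eq_zero]
      intro z hz
      obtain ⟨c, s, hs, h⟩ := hrep z
      have h' := congrArg φ₁ h
      rw [map_mul, hφ₁, hφ₁, hz, zero_mul] at h'
      have : Φ.rangeRestrict c = 0 := Subtype.ext h'.symm
      rw [this, map_zero] at h
      exact (IsLocalization.map_units O₁ (⟨_, hs⟩ : Q.primeCompl)).mul_left_eq_zero.1 h
    have hfrac₁ : ∀ z : V, ∃ a c : O₁, c ≠ 0 ∧ z * φ₁ c = φ₁ a := fun z => by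
      obtain ⟨c₁, c₂, hc₂, hz⟩ := hfrac z
      refine ⟨algebraMap B O₁ (Φ.rangeRestrict (C c₁)), algebraMap B O₁ (Φ.rangeRestrict (C c₂)), fun h => ?_, ?_⟩
      · have := congrArg φ₁ h
        rw [hφ₁, hΦC, map_zero] at this
        exact hc₂ (hφ (by rw [this, map_zero]))
      · rw [hφ₁, hφ₁, hΦC, hΦC, hz]
    have halg₁ : ∀ o, IsAlgebraic k₀ (residue V (φ₁ o)) := fun o => by
      obtain ⟨c, s, hs, h⟩ := hrep o
      have h' := congrArg (fun z => residue V (φ₁ z)) h
      simp only [map_mul, hφ₁] at h'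
      have hne : residue V (Φ s) ≠ 0 := fun h0 => hs ((residue_eq_zero_iff _).1 h0)
      rw [(eq_mul_inv_iff_mul_eq₀ hne).2 h']
      exact mem_algebraicClosure_iff.1 (mul_mem (mem_algebraicClosure_iff.2 (halgΦ c))
        (inv_mem (mem_algebraicClosure_iff.2 (halgΦ s))))
    have hne₁ : Φ G₁ ≠ 0 := fun h => hb0 (hφ (by rw [hG₁, h, mul_zero, map_zero]))
    refine ih (Φ G₁) ⟨hne₁, φ x, fun h => (h.map (residue V)).ne_zero hφxm, by rw [← hbb, hG₁, mul_comm]⟩ O₁ φ₁
      hinj₁ hdim₁ hfrac₁ halg₁ (algebraMap B O₁ (Φ.rangeRestrict G₀)) (algebraMap B O₁ (Φ.rangeRestrict G₁)) u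
      (fun h => hne₁ (by rw [← hφ₁, h, map_zero])) (hφ₁ _) (by rw [hφ₁, hφ₁, hau₁]) hu

end Groth.Agent.RegExt
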