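import Groth.Agent.Lib.RegExt.RatCurve
import Groth.Agent.Lib.RegExt.Ruled
import Groth.Agent.Lib.RegExt.Image
import Groth.Agent.Lib.RegLoc.UFD
import Groth.Agent.Lib.KrullAkizuki.DVR
import Mathlib.AlgebraicGeometry.ZariskisMainTheorem
import Mathlib.FieldTheory.IntermediateField.Adjoin.Basic

/-!
# Points of proper group schemes over two-dimensional regular local rings
-/

set_option linter.style.haveILetI false

universe u

open CategoryTheory Limits AlgebraicGeometry MonoidalCategory CartesianMonoidalCategory MonObj Polynomial IsLocalRing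

namespace Groth.Agent.RegExt

/-- The image of a point with values in the residue field of a birationally dominating discrete valuation ring
of a two-dimensional regular local ring is closed. -/
theorem isClosed_image_residue {O : Type u} [CommRing O] [IsRegularLocalRing O]
    (hdim : (maximalIdeal O).spanFinrank = 2)
    {V : Type u} [CommRing V] [IsDomain V] [ValuationRing V] [IsNoetherianRing V] (φ : O →+* V) [IsLocalHom φ]
    (hφ : Function.Injective φ) (hfrac : ∀ z : V, ∃ a c : O, c ≠ 0 ∧ z * φ c = φ a)
    (G : Over (Spec (CommRingCat.of (ResidueField O)))) [GrpObj G] [IsProper G.hom]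
    (b : Spec (CommRingCat.of (ResidueField V)) ⟶ G.left)
    (hb : b ≫ G.hom = Spec.map (CommRingCat.ofHom (ResidueField.map φ))) (z : Spec (CommRingCat.of (ResidueField V))) :
    IsClosed ({b.base z} : Set G.left) := by
  letI : Algebra (ResidueField O) (ResidueField V) := (ResidueField.map φ).toAlgebra
  by_cases halg : Algebra.IsAlgebraic (ResidueField O) (ResidueField V)
  · haveI : IsIntegralHom (Spec.map (CommRingCat.ofHom (ResidueField.map φ))) :=
      IsIntegralHom.SpecMap_iff.2 (algebraMap_isIntegral_iff (R := ResidueField O) (A := ResidueField V) |>.2 inferInstance)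
    haveI : UniversallyClosed (b ≫ G.hom) := by rw [hb]; infer_instance
    haveI : UniversallyClosed b := .of_comp_of_isSeparated b G.hom
    rw [← Set.image_singleton]
    exact b.isClosedMap _ (isClosed_discrete _)
  obtain ⟨ū, hū⟩ : ∃ x : ResidueField V, Transcendental (ResidueField O) x := by
    by_contra h
    push Not at h
    exact halg ⟨fun x => not_not.1 (h x)⟩
  obtain ⟨u, rfl⟩ := residue_surjective ū
  obtain ⟨a, c, hc, hu⟩ := hfrac u
  have halgO : ∀ o, IsAlgebraic (ResidueField O) (residue V (φ o)) := fun o =>
    isAlgebraic_algebraMap (residue O o)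
  obtain ⟨t, ht, hgen⟩ := residueField_ruled (ResidueField O) (φ c) O φ hφ hdim hfrac halgO a c u hc rfl hu.symm hū
  set L := algebraicClosure (ResidueField O) (ResidueField V)
  haveI : Algebra.IsAlgebraic (ResidueField O) L := algebraicClosure.isAlgebraic _ _
  have htL : Transcendental L t := fun h => ht (h.restrictScalars (ResidueField O))
  let e : FractionRing L[X] →+* ResidueField V :=
    IsFractionRing.lift (g := (aeval t : L[X] →ₐ[L] ResidueField V).toRingHom) (transcendental_iff_injective.1 htL)
  have he : ∀ p : L[X], e (algebraMap L[X] (FractionRing L[X]) p) = aeval t p := fun p => IsFractionRing.lift_algebraMap _ p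
  have hsurj : Function.Surjective e := fun x => by
    obtain ⟨r, s, rfl⟩ := (IntermediateField.mem_adjoin_simple_iff L x).1 (hgen x)
    exact ⟨algebraMap _ _ r / algebraMap _ _ s, by rw [map_div₀, he, he]⟩
  let E : FractionRing L[X] ≃+* ResidueField V := RingEquiv.ofBijective e ⟨e.injective, hsurj⟩
  have hcomp : E.symm.toRingHom.comp (ResidueField.map φ) = algebraMap (ResidueField O) (FractionRing L[X]) := by
    ext x
    apply E.injective
    simp only [RingHom.comp_apply, RingEquiv.toRingHom_eq_coe, RingEquiv.coe_toRingHom, RingEquiv.apply_symm_apply]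
    show _ = e _
    rw [IsScalarTower.algebraMap_apply (ResidueField O) L[X] (FractionRing L[X]), he]
    exact (((aeval t).restrictScalars (ResidueField O)).commutes x).symm
  have hb' : (Spec.map (CommRingCat.ofHom E.symm.toRingHom) ≫ b) ≫ G.hom =
      Spec.map (CommRingCat.ofHom (algebraMap (ResidueField O) (FractionRing L[X]))) := by
    rw [Category.assoc, hb, ← Spec.map_comp, ← CommRingCat.ofHom_comp, hcomp]
  have key := isClosed_image_ratFunc G L _ hb' (IsLocalRing.closedPoint _)
  have hz : (Spec.map (CommRingCat.ofHom E.symm.toRingHom)).base (IsLocalRing.closedPoint _) = z := Subsingleton.elim _ _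
  rw [← hz]
  exact key

set_option backward.isDefEq.respectTransparency.types false in
/-- Points of a proper group scheme over the fraction field of a two-dimensional regular local ring extend. -/
theorem exists_extension_dim_two {O : CommRingCat.{u}} [IsRegularLocalRing O] (hdim : (maximalIdeal O).spanFinrank = 2)
    (K : Type u) [Field K] [Algebra O K] [IsFractionRing O K] (G : Over (Spec O)) [GrpObj G] [IsProper G.hom]
    (γ : Spec (CommRingCat.of K) ⟶ G.left) (hγ : γ ≫ G.hom = Spec.map (CommRingCat.ofHom (algebraMap O K))) :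
    ∃ g : Spec O ⟶ G.left, g ≫ G.hom = 𝟙 _ ∧ Spec.map (CommRingCat.ofHom (algebraMap O K)) ≫ g = γ := by
  haveI := RegLoc.isDomain O
  haveI := RegLoc.ufd_of_isRegularLocalRing O
  haveI : QuasiCompact γ := by
    haveI : QuasiCompact (γ ≫ G.hom) := by rw [hγ]; infer_instance
    exact .of_comp γ G.hom
  haveI := isIntegral_image γ
  let p : γ.image ⟶ Spec O := γ.imageι ≫ G.hom
  haveI : IsProper p := inferInstanceAs (IsProper (γ.imageι ≫ G.hom))
  have hp : γ.toImage ≫ p = Spec.map (CommRingCat.ofHom (algebraMap O K)) := by
    rw [← hγ, ← Category.assoc, γ.toImage_imageι]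
  set m : Spec O := closedPoint O
  have hpt : ∀ z, p.base z = m → IsClosed ({z} : Set γ.image) := by
    intro z hz
    let pt : Spec (CommRingCat.of K) := closedPoint K
    have hgen : ∀ y : γ.image, γ.toImage.base pt ⤳ y := fun y => by
      rw [specializes_iff_mem_closure]
      have : Set.range γ.toImage.base = {γ.toImage.base pt} := by
        ext w
        constructor
        · rintro ⟨v, rfl⟩; exact congrArg γ.toImage.base (Subsingleton.elim v pt)
        · rintro rfl; exact ⟨_, rfl⟩
      rw [← this]
      exact γ.toImage.denseRange y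
    let εc : γ.image.presheaf.stalk z ⟶ CommRingCat.of K :=
      γ.image.presheaf.stalkSpecializes (hgen z) ≫ Scheme.stalkClosedPointTo γ.toImage
    have hεc : Spec.map εc ≫ γ.image.fromSpecStalk z = γ.toImage := by
      rw [Spec.map_comp, Category.assoc, Scheme.SpecMap_stalkSpecializes_fromSpecStalk,
        Scheme.Spec_stalkClosedPointTo_fromSpecStalk]
    have hεinj : Function.Injective εc.hom := by
      rw [RingHom.injective_iff_ker_eq_bot, ← le_bot_iff]
      let q₀ : Spec (γ.image.presheaf.stalk z) := ⟨⊥, Ideal.isPrime_bot⟩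
      have h1 : (Spec.map εc).base pt ⤳ q₀ := by
        refine (γ.image.fromSpecStalk z).isEmbedding.isInducing.specializes_iff.1 ?_
        rw [← Scheme.Hom.comp_apply, hεc]
        exact hgen _
      have h2 := (PrimeSpectrum.le_iff_specializes ((Spec.map εc).base pt) q₀).2 h1
      intro r hr
      refine h2 ?_
      show εc.hom r ∈ maximalIdeal K
      rw [RingHom.mem_ker.1 hr]
      exact zero_mem _
    let rO : O ⟶ γ.image.presheaf.stalk z := Spec.preimage (γ.image.fromSpecStalk z ≫ p)
    have hrO : Spec.map rO = γ.image.fromSpecStalk z ≫ p := Spec.map_preimage _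
    have hcomp : ∀ o, εc.hom (rO.hom o) = algebraMap O K o := by
      have : rO ≫ εc = CommRingCat.ofHom (algebraMap O K) := Spec.map_injective (by
        rw [Spec.map_comp, hrO, reassoc_of% hεc, hp])
      exact fun o => congr(CommRingCat.Hom.hom $this o)
    have hrOm : ∀ o ∈ maximalIdeal O, rO.hom o ∈ maximalIdeal (γ.image.presheaf.stalk z) := fun o ho => by
      have : (Spec.map rO).base (closedPoint (γ.image.presheaf.stalk z)) = m := by
        rw [hrO]
        show p.base ((γ.image.fromSpecStalk z).base (closedPoint _)) = m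
        rw [Scheme.fromSpecStalk_closedPoint, hz]
      exact (congrArg PrimeSpectrum.asIdeal this).ge ho
    letI : Algebra (γ.image.presheaf.stalk z) K := εc.hom.toAlgebra
    haveI : IsFractionRing (γ.image.presheaf.stalk z) K := by
      haveI : FaithfulSMul (γ.image.presheaf.stalk z) K := (faithfulSMul_iff_algebraMap_injective _ _).2 hεinj
      refine IsFractionRing.of_field _ K fun k => ?_
      obtain ⟨a, b, -, rfl⟩ := IsFractionRing.div_surjective O k
      refine ⟨rO.hom a, rO.hom b, ?_⟩
      show algebraMap O K a / algebraMap O K b = εc.hom _ / εc.hom _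
      rw [hcomp, hcomp]
    haveI : IsLocallyNoetherian γ.image := LocallyOfFiniteType.isLocallyNoetherian p
    have hnf : ¬ IsField (γ.image.presheaf.stalk z) := by
      intro hF
      have hmax : maximalIdeal (γ.image.presheaf.stalk z) = ⊥ := isField_iff_maximalIdeal_eq.1 hF
      obtain ⟨x, hx, hx0⟩ := Submodule.exists_mem_ne_zero_of_ne_bot (p := maximalIdeal O) (fun h => by
        rw [h] at hdim; simp at hdim)
      have := hrOm x hx
      rw [hmax, Ideal.mem_bot] at this
      exact hx0 (IsFractionRing.injective O K (by rw [← hcomp, this, map_zero, map_zero]))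
    obtain ⟨V, hV, hmem, hlt⟩ := KrullAkizuki.exists_dvr_dominating (γ.image.presheaf.stalk z) hnf K K
    haveI := hV
    let χ : γ.image.presheaf.stalk z →+* V := (algebraMap (γ.image.presheaf.stalk z) K).codRestrict V.toSubring hmem
    have hχ : ∀ r, ((χ r : V) : K) = εc.hom r := fun r => rfl
    have hχm : ∀ r ∈ maximalIdeal (γ.image.presheaf.stalk z), χ r ∈ maximalIdeal V := fun r hr =>
      (V.valuation_lt_one_iff _).2 (hlt r hr)
    haveI : IsLocalHom χ := ⟨fun r hr => not_not.1 fun h => hχm r h hr⟩
    let φ : O →+* V := χ.comp rO.hom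
    haveI : IsLocalHom φ := ⟨fun r hr => not_not.1 fun h => hχm _ (hrOm r h) hr⟩
    have hφ : ∀ o, ((φ o : V) : K) = algebraMap O K o := fun o => hcomp o
    have hφinj : Function.Injective φ := fun a b h =>
      IsFractionRing.injective O K (by rw [← hφ, h, hφ])
    have hfrac : ∀ v : V, ∃ a c : O, c ≠ 0 ∧ v * φ c = φ a := fun v => by
      obtain ⟨a, c, hc, hac⟩ := IsFractionRing.div_surjective O (v : K)
      refine ⟨a, c, nonZeroDivisors.ne_zero hc, Subtype.ext ?_⟩
      show (v : K) * (φ c : K) = (φ a : K)
      rw [hφ, hφ, ← hac, div_mul_cancel₀ _ (IsFractionRing.to_map_ne_zero_of_mem_nonZeroDivisors hc)]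
    let s : Spec (CommRingCat.of (ResidueField V)) ⟶ γ.image :=
      Spec.map (CommRingCat.ofHom ((residue V).comp χ)) ≫ γ.image.fromSpecStalk z
    let pv : Spec (CommRingCat.of (ResidueField V)) := closedPoint _
    have hs : s.base pv = z := by
      have : (Spec.map (CommRingCat.ofHom ((residue V).comp χ))).base pv = closedPoint _ := by
        apply PrimeSpectrum.ext
        show (maximalIdeal (ResidueField V)).comap ((residue V).comp χ) = maximalIdeal _
        refine le_antisymm (IsLocalRing.le_maximalIdeal (Ideal.comap_ne_top _ (maximalIdeal.isMaximal _).ne_top)) fun r hr => ?_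
        show residue V (χ r) ∈ maximalIdeal (ResidueField V)
        rw [(residue_eq_zero_iff _).2 (hχm r hr)]
        exact zero_mem _
      rw [Scheme.Hom.comp_apply, this, Scheme.fromSpecStalk_closedPoint]
    let κ := Spec.map (CommRingCat.ofHom (residue O))
    let Gk := (Over.pullback κ).obj G
    letI : GrpObj Gk := Functor.grpObjObj
    haveI : IsProper Gk.hom := by dsimp [Gk]; infer_instance
    have hsw : (s ≫ γ.imageι) ≫ G.hom = Spec.map (CommRingCat.ofHom (ResidueField.map φ)) ≫ κ := by
      show ((_ ≫ _) ≫ _) ≫ _ = _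
      rw [Category.assoc, Category.assoc, show γ.image.fromSpecStalk z ≫ γ.imageι ≫ G.hom = Spec.map rO from hrO.symm,
        ← Spec.map_comp, ← Spec.map_comp]
      congr 1
    have key := isClosed_image_residue hdim φ hφinj hfrac Gk (pullback.lift (s ≫ γ.imageι) _ hsw)
      (pullback.lift_snd _ _ _) pv
    haveI : IsClosedImmersion κ := IsClosedImmersion.spec_of_surjective _ residue_surjective
    have key' := (pullback.fst G.hom κ).isClosedMap _ key
    rw [Set.image_singleton, ← Scheme.Hom.comp_apply, pullback.lift_fst, Scheme.Hom.comp_apply, hs] at key'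
    have := key'.preimage γ.imageι.continuous
    rwa [← Set.image_singleton, Set.preimage_image_eq _ γ.imageι.isEmbedding.injective] at this
  haveI : IsLocallyNoetherian γ.image := LocallyOfFiniteType.isLocallyNoetherian p
  haveI : CompactSpace γ.image := QuasiCompact.compactSpace_of_compactSpace p
  haveI : IsNoetherian γ.image := {}
  have hfin : (p.base ⁻¹' {m}).Finite :=
    finite_of_forall_isClosed_singleton ((isClosed_singleton_closedPoint O).preimage p.continuous) hpt
  obtain ⟨W, hmW, hW⟩ := exists_isFinite_morphismRestrict_of_finite_preimage_singleton p m hfin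
  have hWtop : W = ⊤ := top_le_iff.1 fun x _ =>
    (IsLocalRing.specializes_closedPoint (R := O) x).mem_open W.2 hmW
  subst hWtop
  haveI : IsFinite p :=
    IsZariskiLocalAtTarget.of_iSup_eq_top (fun _ : Unit => (⊤ : (Spec O).Opens)) iSup_const fun _ => hW
  haveI : IsAffine γ.image := isAffine_of_isAffineHom p
  let β : O ⟶ Γ(γ.image, ⊤) := (Scheme.ΓSpecIso O).inv ≫ p.appTop
  let δ : Γ(γ.image, ⊤) ⟶ CommRingCat.of K := γ.toImage.appTop ≫ (Scheme.ΓSpecIso _).hom
  have hδβ : β ≫ δ = CommRingCat.ofHom (algebraMap O K) := by
    simp only [β, δ, Category.assoc]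
    rw [← Category.assoc p.appTop, ← Scheme.Hom.comp_appTop, hp, Scheme.ΓSpecIso_naturality]
    exact Iso.inv_hom_id_assoc (Scheme.ΓSpecIso O) _
  have hδinj : Function.Injective δ.hom := by
    haveI : IsSchemeTheoreticallyDominant γ.toImage := .of_isDominant _
    exact (Scheme.ΓSpecIso (CommRingCat.of K)).commRingCatIsoToRingEquiv.injective.comp (γ.toImage.app_injective ⊤)
  have hint : β.hom.IsIntegral := by
    have h1 : p.appTop.hom.Finite := IsFinite.finite_app p ⊤ (isAffineOpen_top _)
    exact (h1.comp (RingHom.Finite.of_surjective _ (Scheme.ΓSpecIso O).commRingCatIsoToRingEquiv.symm.surjective)).to_isIntegral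
  have hbij : Function.Bijective β.hom := by
    refine ⟨fun a b h => IsFractionRing.injective O K ?_, fun x => ?_⟩
    · have h1 := congrArg δ.hom h
      change (β ≫ δ).hom a = (β ≫ δ).hom b at h1
      rwa [hδβ] at h1
    · have : IsIntegral O (δ.hom x) := by
        letI := β.hom.toAlgebra
        exact IsIntegral.map (⟨δ.hom, fun o => congr(CommRingCat.Hom.hom $hδβ o)⟩ : Γ(γ.image, ⊤) →ₐ[O] K) (hint x)
      obtain ⟨o, ho⟩ := IsIntegrallyClosed.isIntegral_iff.1 this
      exact ⟨o, hδinj (by rw [← ho]; exact congr(CommRingCat.Hom.hom $hδβ o))⟩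
  haveI : IsIso p := by
    haveI : IsIso β := (ConcreteCategory.isIso_iff_bijective _).2 hbij
    haveI : IsIso p.appTop := IsIso.of_isIso_comp_left (Scheme.ΓSpecIso O).inv p.appTop
    have := Scheme.isoSpec_hom_naturality p
    haveI : IsIso (p ≫ (Spec O).isoSpec.hom) := by rw [← this]; infer_instance
    exact IsIso.of_isIso_comp_right p (Spec O).isoSpec.hom
  refine ⟨inv p ≫ γ.imageι, ?_, ?_⟩
  · rw [Category.assoc]; exact IsIso.inv_hom_id p
  · rw [← hp, Category.assoc, IsIso.hom_inv_id_assoc, γ.toImage_imageι]

end Groth.Agent.RegExt
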