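import Mathlib.AlgebraicGeometry.Geometrically.Integral
import Mathlib.AlgebraicGeometry.Morphisms.SchemeTheoreticallyDominant
import Mathlib.AlgebraicGeometry.Morphisms.FlatMono
import Mathlib.AlgebraicGeometry.PullbackCarrier
import Mathlib.FieldTheory.IsAlgClosed.AlgebraicClosure

/-!
# Geometric integrality can be tested on geometric points
-/

set_option linter.style.haveILetI false

universe u

open CategoryTheory Limits AlgebraicGeometry

namespace Groth.Agent.RegExt

theorem geometricallyIntegral_of_isAlgClosed {X S : Scheme.{u}} (f : X ⟶ S) [QuasiCompact f]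
    (h : ∀ (K : Type u) [Field K] [IsAlgClosed K] (y : Spec (CommRingCat.of K) ⟶ S), IsIntegral (pullback f y)) :
    GeometricallyIntegral f := by
  constructor
  intro K _ y Z fst snd hpb
  let Kb := AlgebraicClosure K
  let ρ := Spec.map (CommRingCat.ofHom (algebraMap K Kb))
  let W := pullback snd ρ
  haveI : IsIntegral W := by
    haveI := h Kb (ρ ≫ y)
    let e : W ≅ pullback f (ρ ≫ y) := ((IsPullback.of_hasPullback snd ρ).paste_horiz hpb).isoPullback
    haveI : Nonempty W := ⟨e.inv.base (genericPoint (pullback f (ρ ≫ y) : Scheme))⟩
    exact isIntegral_of_isOpenImmersion e.hom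
  let π : W ⟶ Z := pullback.fst snd ρ
  haveI : Surjective ρ := ⟨Function.surjective_to_subsingleton (α := Spec (CommRingCat.of Kb)) (β := Spec (CommRingCat.of K)) _⟩
  haveI : Surjective π := inferInstanceAs (Surjective (pullback.fst snd ρ))
  haveI : IsSchemeTheoreticallyDominant ρ := IsSchemeTheoreticallyDominant.of_isDominant ρ
  haveI : Flat snd := inferInstance
  haveI : IsSchemeTheoreticallyDominant π := inferInstance
  haveI : IsReduced Z := IsSchemeTheoreticallyDominant.isReduced π
  haveI : Nonempty Z := ⟨π.base (genericPoint W)⟩
  haveI : IrreducibleSpace Z := by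
    have hirr : IsIrreducible (Set.univ : Set Z) := by
      rw [← π.surjective.range_eq, ← Set.image_univ]
      exact (IrreducibleSpace.isIrreducible_univ W).image _ π.continuous.continuousOn
    haveI : PreirreducibleSpace Z := ⟨hirr.2⟩
    exact ⟨inferInstance⟩
  exact isIntegral_of_irreducibleSpace_of_isReduced _

end Groth.Agent.RegExt
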