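import Groth.Agent.Lib.RigidRel.Collapse
import Mathlib.AlgebraicGeometry.FunctionField
import Mathlib.RingTheory.UniqueFactorizationDomain.Basic
import Mathlib.RingTheory.Localization.NumDen
import Mathlib.AlgebraicGeometry.Morphisms.Affine

/-!
# Hartogs for unique factorisation domains, and complements of affine opens
-/

set_option linter.style.haveILetI false

universe u

open CategoryTheory Limits AlgebraicGeometry

namespace Groth.Agent.RegExt

/-- Functions on an open meeting every divisor of a factorial affine scheme extend. -/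
theorem bijective_res (X : Scheme.{u}) [IsIntegral X] [IsAffine X] [UniqueFactorizationMonoid Γ(X, ⊤)]
    (P : X.Opens) [Nonempty P] (hP : ∀ π : Γ(X, ⊤), Prime π → ∃ x ∈ P, x ∉ X.basicOpen π) :
    Function.Bijective (X.presheaf.map (homOfLE (le_top : P ≤ ⊤)).op).hom := by
  haveI : Nonempty (⊤ : X.Opens) := ⟨⟨Classical.arbitrary X, trivial⟩⟩
  haveI := functionField_isFractionRing_of_isAffineOpen X ⊤ (isAffineOpen_top X)
  refine ⟨map_injective_of_isIntegral X _, fun s => ?_⟩
  obtain ⟨a, b, hab, hs⟩ := IsFractionRing.exists_reduced_fraction (A := Γ(X, ⊤)) (K := X.functionField)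
    (X.germToFunctionField P s)
  have hb : IsUnit (b : Γ(X, ⊤)) := by
    by_contra hb
    obtain ⟨π, hπi, hπb⟩ := WfDvdMonoid.exists_irreducible_factor hb (nonZeroDivisors.ne_zero b.2)
    have hπ := UniqueFactorizationMonoid.irreducible_iff_prime.1 hπi
    obtain ⟨x, hxP, hxπ⟩ := hP π hπ
    let xt : (⊤ : X.Opens) := ⟨x, trivial⟩
    letI := X.presheaf.algebra_section_stalk xt
    haveI := (isAffineOpen_top X).isLocalization_stalk xt
    obtain ⟨⟨a', c⟩, hc⟩ := IsLocalization.surj ((isAffineOpen_top X).primeIdealOf xt).asIdeal.primeCompl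
      (X.presheaf.germ P x hxP s)
    haveI := functionField_isScalarTower X ⊤ xt
    have hc' := congrArg (algebraMap (X.presheaf.stalk x) X.functionField) hc
    rw [map_mul, ← IsScalarTower.algebraMap_apply, ← IsScalarTower.algebraMap_apply,
      Scheme.algebraMap_germ_eq_germToFunctionField, ← hs] at hc'
    have hac : a * (c : Γ(X, ⊤)) = a' * b := by
      apply IsFractionRing.injective Γ(X, ⊤) X.functionField
      rw [map_mul, map_mul, ← IsLocalization.mk'_spec X.functionField a b, mul_right_comm, hc']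
    have hπc : π ∣ (c : Γ(X, ⊤)) := (hπ.dvd_or_dvd (hac ▸ hπb.mul_left a')).resolve_left fun h =>
      hπi.not_isUnit (hab h hπb)
    apply hxπ
    rw [Scheme.mem_basicOpen X π x xt.2]
    exact isUnit_of_dvd_unit (map_dvd _ hπc) (IsLocalization.map_units (X.presheaf.stalk x) c)
  obtain ⟨v, hv⟩ := hb
  refine ⟨a * ↑v⁻¹, X.germToFunctionField_injective P ?_⟩
  rw [Scheme.germToFunctionField, X.presheaf.germ_res_apply]
  show algebraMap Γ(X, ⊤) X.functionField _ = X.germToFunctionField P s
  rw [← hs, IsLocalization.eq_mk'_iff_mul_eq, ← map_mul, ← hv, mul_assoc, Units.inv_mul, mul_one]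

/-- A morphism into an affine scheme from an open meeting every divisor of a factorial affine scheme extends. -/
theorem exists_factor (X : Scheme.{u}) [IsIntegral X] [IsAffine X] [UniqueFactorizationMonoid Γ(X, ⊤)]
    (P : X.Opens) [Nonempty P] (hP : ∀ π : Γ(X, ⊤), Prime π → ∃ x ∈ P, x ∉ X.basicOpen π)
    {W : Scheme.{u}} [IsAffine W] (g : P.toScheme ⟶ W) : ∃ g' : X ⟶ W, P.ι ≫ g' = g := by
  haveI : IsIso P.ι.appTop := by
    have e : P.ι.appTop ≫ P.topIso.hom = X.presheaf.map (homOfLE (le_top : P ≤ ⊤)).op := by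
      rw [Scheme.Opens.ι_appTop, Scheme.Opens.topIso_hom]
      exact (X.presheaf.map_comp _ _).symm
    haveI : IsIso (X.presheaf.map (homOfLE (le_top : P ≤ ⊤)).op) :=
      (ConcreteCategory.isIso_iff_bijective _).2 (bijective_res X P hP)
    haveI : IsIso (P.ι.appTop ≫ P.topIso.hom) := e ▸ inferInstance
    exact IsIso.of_isIso_comp_right _ P.topIso.hom
  exact RigidRel.exists_factor_of_isAffine P.ι g

/-- In a separated scheme the complement of an affine open contains, near each of its points with factorial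
local ring, a divisor. -/
theorem exists_divisor_outside {G S : Scheme.{u}} (q : G ⟶ S) [IsSeparated q] [IsAffine S] (a : G)
    [IsDomain (G.presheaf.stalk a)] [UniqueFactorizationMonoid (G.presheaf.stalk a)]
    (W : G.Opens) (hW : IsAffineOpen W) (ha : a ∉ W) :
    ∃ π ∈ IsLocalRing.maximalIdeal (G.presheaf.stalk a),
      ∀ z : Spec (G.presheaf.stalk a), π ∈ z.asIdeal → (G.fromSpecStalk a).base z ∉ W := by
  set X := Spec (G.presheaf.stalk a)
  haveI : IsAffineHom (G.fromSpecStalk a) := IsAffineHom.of_comp (G.fromSpecStalk a) q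
  set V : X.Opens := G.fromSpecStalk a ⁻¹ᵁ W
  haveI : IsAffine V.toScheme := hW.preimage (G.fromSpecStalk a)
  by_cases hne : Nonempty V
  swap
  · exact ⟨0, zero_mem _, fun z _ hz => hne ⟨⟨z, hz⟩⟩⟩
  haveI : UniqueFactorizationMonoid Γ(X, ⊤) :=
    MulEquiv.uniqueFactorizationMonoid (Scheme.ΓSpecIso (G.presheaf.stalk a)).commRingCatIsoToRingEquiv.symm.toMulEquiv
      inferInstance
  by_cases hP : ∀ π : Γ(X, ⊤), Prime π → ∃ x ∈ V, x ∉ X.basicOpen π
  · exfalso
    obtain ⟨g', hg'⟩ := exists_factor X V hP (𝟙 V.toScheme)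
    haveI : IsDominant V.ι :=
      ⟨by rw [DenseRange, Scheme.Opens.range_ι]; exact V.2.dense ⟨hne.some.1, hne.some.2⟩⟩
    have e : g' ≫ V.ι = 𝟙 X := ext_of_isDominant V.ι (by rw [reassoc_of% hg', Category.comp_id])
    apply ha
    have := (g'.base (IsLocalRing.closedPoint (G.presheaf.stalk a))).2
    have e' : (g'.base (IsLocalRing.closedPoint (G.presheaf.stalk a))).1 = IsLocalRing.closedPoint (G.presheaf.stalk a) := by
      show (g' ≫ V.ι).base _ = _
      rw [e]; rfl
    rw [e'] at this
    rwa [← Scheme.fromSpecStalk_closedPoint (x := a)]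
  · push Not at hP
    obtain ⟨π, hπ, hπV⟩ := hP
    refine ⟨(Scheme.ΓSpecIso (G.presheaf.stalk a)).hom π, ?_, fun z hz hzW => ?_⟩
    · rw [IsLocalRing.mem_maximalIdeal, mem_nonunits_iff]
      exact fun h => hπ.not_isUnit ((isUnit_map_iff (Scheme.ΓSpecIso (G.presheaf.stalk a)).commRingCatIsoToRingEquiv π).1 h)
    · have := hπV z hzW
      rw [basicOpen_eq_of_affine'] at this
      exact this hz

end Groth.Agent.RegExt
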