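import Groth.Agent.Lib.RegExt.Dim2
import Groth.Agent.Lib.RegExt.Hartogs
import Groth.Agent.Lib.RegLoc.GlobalDim
import Groth.Agent.Lib.WeilExt.Proper
import Groth.Agent.Lib.WeilExt.Regular
import Mathlib.AlgebraicGeometry.SpreadingOut

/-!
# Points of abelian schemes over regular local rings
-/

set_option linter.style.haveILetI false

universe u

open CategoryTheory Limits AlgebraicGeometry MonoidalCategory CartesianMonoidalCategory MonObj IsLocalRing

namespace Groth.Agent.RegExt

/-- Points over the fraction field of smooth proper group schemes extend. -/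
def Extends (O : CommRingCat.{u}) : Prop :=
  ∀ (K : Type u) [Field K] [Algebra O K] [IsFractionRing O K] (G : Over (Spec O)) [GrpObj G] [IsProper G.hom]
    [Smooth G.hom] (γ : Spec (CommRingCat.of K) ⟶ G.left)
    (_ : γ ≫ G.hom = Spec.map (CommRingCat.ofHom (algebraMap O K))),
    ∃ g : Spec O ⟶ G.left, g ≫ G.hom = 𝟙 _ ∧ Spec.map (CommRingCat.ofHom (algebraMap O K)) ≫ g = γ

set_option backward.isDefEq.respectTransparency false in
theorem fromSpecStalkOfMem_closedPoint {X : Scheme.{u}} (U : X.Opens) (x : X) (hx : x ∈ U) :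
    (U.fromSpecStalkOfMem x hx).base (closedPoint (X.presheaf.stalk x)) = ⟨x, hx⟩ := by
  apply U.ι.isOpenEmbedding.injective
  rw [← Scheme.Hom.comp_apply, Scheme.Opens.fromSpecStalkOfMem_ι, Scheme.fromSpecStalk_closedPoint]
  rfl

set_option backward.isDefEq.respectTransparency false in
/-- A morphism from the spectrum of a local ring factors through the local ring at the image of the closed point. -/
theorem exists_stalk_factor {A : CommRingCat.{u}} [IsLocalRing A] {Y : Scheme.{u}} (s : Spec A ⟶ Y) (a : Y)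
    (hs : s.base (closedPoint A) = a) : ∃ ψ : Y.presheaf.stalk a ⟶ A,
      (∀ π ∈ maximalIdeal (Y.presheaf.stalk a), ψ.hom π ∈ maximalIdeal A) ∧
      ∀ z : Spec A, s.base z = (Y.fromSpecStalk a).base ((Spec.map ψ).base z) := by
  subst hs
  refine ⟨Scheme.stalkClosedPointTo s, fun π hπ => ?_, fun z => ?_⟩
  · exact map_nonunit (Scheme.stalkClosedPointTo s).hom π hπ
  · rw [← Scheme.Hom.comp_apply, Scheme.Spec_stalkClosedPointTo_fromSpecStalk]

variable {O : CommRingCat.{u}} [IsRegularLocalRing O] {K : Type u} [Field K] [Algebra O K] [IsFractionRing O K]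

/-- A closed point is distinguished from the others. -/
noncomputable def punctured (O : CommRingCat.{u}) [IsLocalRing O] : (Spec O).Opens :=
  ⟨{closedPoint O}ᶜ, (isClosed_singleton_closedPoint O).isOpen_compl⟩

omit [Algebra O K] [IsFractionRing O K] in
theorem mem_punctured {x : Spec O} : x ∈ punctured O ↔ x ≠ closedPoint O := Iff.rfl

/-- Extension over the punctured spectrum, from extension at its local rings. -/
theorem exists_punctured (G : Over (Spec O)) [GrpObj G] [IsProper G.hom] [Smooth G.hom]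
    (IH : ∀ (O' : CommRingCat.{u}) [IsRegularLocalRing O'],
      (maximalIdeal O').spanFinrank < (maximalIdeal O).spanFinrank → Extends O')
    (γ : Spec (CommRingCat.of K) ⟶ G.left) (hγ : γ ≫ G.hom = Spec.map (CommRingCat.ofHom (algebraMap O K))) :
    ∃ σ : (punctured O).toScheme ⟶ G.left, σ ≫ G.hom = (punctured O).ι ∧
      ∀ l : Spec (CommRingCat.of K) ⟶ (punctured O).toScheme,
        l ≫ (punctured O).ι = Spec.map (CommRingCat.ofHom (algebraMap O K)) → l ≫ σ = γ := by
  haveI := RegLoc.isDomain O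
  set P := punctured O
  set j : Spec (CommRingCat.of K) ⟶ Spec O := Spec.map (CommRingCat.ofHom (algebraMap O K)) with hj
  haveI hjdom : IsDominant j := by
    refine ⟨fun x => ?_⟩
    have h0 : j.base (closedPoint K) = (⟨⊥, Ideal.isPrime_bot⟩ : PrimeSpectrum O) := by
      apply PrimeSpectrum.ext
      show (maximalIdeal K).comap (algebraMap O K) = ⊥
      rw [maximalIdeal_eq_bot, ← RingHom.ker_eq_comap_bot,
        (RingHom.injective_iff_ker_eq_bot _).1 (IsFractionRing.injective O K)]
    refine closure_mono ?_ (specializes_iff_mem_closure.1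
      ((PrimeSpectrum.le_iff_specializes (⟨⊥, Ideal.isPrime_bot⟩ : PrimeSpectrum O) x).1 bot_le))
    rintro y (rfl : y = _)
    exact ⟨_, h0⟩
  have hloc : ∀ x : Spec O, x ∈ P → ∃ (V : (Spec O).Opens) (_ : x ∈ V) (g : V.toScheme ⟶ G.left),
      g ≫ G.hom = V.ι ∧ ∀ l : Spec (CommRingCat.of K) ⟶ V.toScheme, l ≫ V.ι = j → l ≫ g = γ := by
    intro x hx
    haveI : x.asIdeal.IsPrime := x.isPrime
    let A := (Spec O).presheaf.stalk x
    letI : Algebra O A := StructureSheaf.stalkAlgebra O x
    haveI : IsLocalization.AtPrime A x.asIdeal := StructureSheaf.IsLocalization.to_stalk O x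
    let aO : O ⟶ A := CommRingCat.ofHom (algebraMap O A)
    have haO : Spec.map aO = (Spec O).fromSpecStalk x := (Spec.fromSpecStalk_eq' O x).symm
    haveI : IsRegularLocalRing A := by
      haveI := RegLoc.isRegularLocalRing_localization O x.asIdeal
      exact IsRegularLocalRing.of_ringEquiv
        (IsLocalization.algEquiv x.asIdeal.primeCompl (Localization.AtPrime x.asIdeal) A).toRingEquiv
    have hlt : (maximalIdeal A).spanFinrank < (maximalIdeal O).spanFinrank := by
      have h1 : (x.asIdeal).height < (maximalIdeal O).height :=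
        Ideal.height_strict_mono_of_isPrime_of_isPrime (lt_of_le_of_ne (le_maximalIdeal x.isPrime.ne_top)
          fun h => hx (PrimeSpectrum.ext h))
      have h2 := IsLocalization.AtPrime.ringKrullDim_eq_height x.asIdeal A
      rw [← IsRegularLocalRing.spanFinrank_maximalIdeal] at h2
      have h3 := maximalIdeal_height_eq_ringKrullDim (R := O)
      rw [← IsRegularLocalRing.spanFinrank_maximalIdeal] at h3
      have h2' : x.asIdeal.height = ((maximalIdeal A).spanFinrank : ℕ∞) := (WithBot.coe_inj.1 h2).symm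
      have h3' : (maximalIdeal O).height = ((maximalIdeal O).spanFinrank : ℕ∞) := WithBot.coe_inj.1 h3
      rw [h2', h3'] at h1
      exact_mod_cast h1
    letI : Algebra A K := (IsLocalization.lift (M := x.asIdeal.primeCompl) (g := algebraMap O K) fun y =>
      IsUnit.mk0 _ ((map_ne_zero_iff _ (IsFractionRing.injective O K)).2 fun h => y.2 (by rw [h]; exact zero_mem _))).toAlgebra
    haveI : IsScalarTower O A K := IsScalarTower.of_algebraMap_eq fun r => (IsLocalization.lift_eq _ r).symm
    haveI : IsFractionRing A K := IsFractionRing.isFractionRing_of_isDomain_of_isLocalization x.asIdeal.primeCompl A K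
    let jA := Spec.map (CommRingCat.ofHom (algebraMap A K))
    have hjA : jA ≫ Spec.map aO = j := by
      rw [← Spec.map_comp]
      exact congrArg Spec.map (CommRingCat.hom_ext (IsScalarTower.algebraMap_eq O A K).symm)
    let G' := (Over.pullback (Spec.map aO)).obj G
    letI : GrpObj G' := Functor.grpObjObj
    haveI : IsProper G'.hom := by dsimp [G']; infer_instance
    haveI : Smooth G'.hom := by dsimp [G']; infer_instance
    obtain ⟨g, hg, hgγ⟩ := IH A hlt K G' (pullback.lift γ jA (by rw [hγ, hjA])) (pullback.lift_snd _ _ _)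
    have hgG : (g ≫ pullback.fst G.hom (Spec.map aO)) ≫ G.hom = (Spec O).fromSpecStalk x ≫ 𝟙 _ := by
      rw [Category.assoc, pullback.condition, ← Category.assoc, Category.comp_id, ← haO]
      exact (congrArg (· ≫ Spec.map aO) hg).trans (Category.id_comp _)
    obtain ⟨V, hxV, f, hf, hfS⟩ := spread_out_of_isGermInjective' (𝟙 _) G.hom _ hgG
    refine ⟨V, hxV, f, by rw [hfS, Category.comp_id], fun l hl => ?_⟩
    have hl' : l = jA ≫ V.fromSpecStalkOfMem x hxV := by
      rw [← cancel_mono V.ι, hl, Category.assoc, Scheme.Opens.fromSpecStalkOfMem_ι, ← haO, hjA]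
    rw [hl', Category.assoc, ← hf, ← Category.assoc, hgγ, pullback.lift_fst]
  choose V hxV f hfS hfγ using hloc
  let 𝒰 := P.toScheme.openCoverOfIsOpenCover (fun x : P.toScheme => P.ι ⁻¹ᵁ V x.1 x.2)
    (eq_top_iff.2 fun x _ => TopologicalSpace.Opens.mem_iSup.2 ⟨x, hxV x.1 x.2⟩)
  let fl : ∀ x : P.toScheme, (P.ι ⁻¹ᵁ V x.1 x.2).toScheme ⟶ G.left := fun x => (P.ι ∣_ V x.1 x.2) ≫ f x.1 x.2
  have hflS : ∀ x, fl x ≫ G.hom = (P.ι ⁻¹ᵁ V x.1 x.2).ι ≫ P.ι := fun x => by
    rw [Category.assoc, hfS, morphismRestrict_ι]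
  haveI : IsReduced P.toScheme := isReduced_of_isOpenImmersion P.ι
  have hagree : ∀ x y, pullback.fst (P.ι ⁻¹ᵁ V x.1 x.2).ι (P.ι ⁻¹ᵁ V y.1 y.2).ι ≫ fl x =
      pullback.snd _ _ ≫ fl y := fun x y => by
    let T := pullback (P.ι ⁻¹ᵁ V x.1 x.2).ι (P.ι ⁻¹ᵁ V y.1 y.2).ι
    let i : T ⟶ Spec O := pullback.fst _ _ ≫ (P.ι ⁻¹ᵁ V x.1 x.2).ι ≫ P.ι
    haveI : IsOpenImmersion i := inferInstance
    haveI : IsReduced T := isReduced_of_isOpenImmersion i
    by_cases hT : Nonempty T
    swap
    · haveI : IsEmpty T := not_nonempty_iff.1 hT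
      exact (isInitialOfIsEmpty (X := T)).hom_ext _ _
    have hrange : Set.range j.base ⊆ Set.range i.base := by
      rintro _ ⟨w, rfl⟩
      obtain ⟨v, hv, hv'⟩ : (Set.range i.base ∩ Set.range j.base).Nonempty :=
        hjdom.denseRange.inter_open_nonempty _ i.opensRange.2 ⟨i.base hT.some, hT.some, rfl⟩
      obtain ⟨w', rfl⟩ := hv'
      rwa [Subsingleton.elim w w']
    let l := IsOpenImmersion.lift i j hrange
    have hl : l ≫ i = j := IsOpenImmersion.lift_fac _ _ _
    haveI : IsDominant l := by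
      refine ⟨fun v => ?_⟩
      rw [i.isEmbedding.closure_eq_preimage_closure_image, ← Set.range_comp]
      show i.base v ∈ closure (Set.range fun w => i.base (l.base w))
      have : (fun w => i.base (l.base w)) = j.base := by
        funext w; rw [← Scheme.Hom.comp_apply, hl]
      rw [this]
      exact hjdom.denseRange _
    refine ext_of_isDominant_of_isSeparated G.hom ?_ l ?_
    · simp only [Category.assoc, hflS, pullback.condition_assoc]
    · have e1 := hfγ x.1 x.2 (l ≫ pullback.fst _ _ ≫ (P.ι ∣_ V x.1 x.2)) (by rw [← hl]; simp [i, morphismRestrict_ι])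
      have e2 := hfγ y.1 y.2 (l ≫ pullback.snd _ _ ≫ (P.ι ∣_ V y.1 y.2)) (by
        rw [← hl]; simp [i, morphismRestrict_ι, pullback.condition_assoc])
      simp only [Category.assoc] at e1 e2
      exact e1.trans e2.symm
  refine ⟨𝒰.glueMorphisms fl hagree, 𝒰.hom_ext _ _ fun x => ?_, fun l hl => ?_⟩
  · exact (Category.assoc _ _ _).symm.trans ((congrArg (· ≫ G.hom) (𝒰.ι_glueMorphisms fl hagree x)).trans (hflS x))
  · let w : Spec (CommRingCat.of K) := closedPoint K
    let x := l.base w
    let lx : Spec (CommRingCat.of K) ⟶ (P.ι ⁻¹ᵁ V x.1 x.2).toScheme := IsOpenImmersion.lift (P.ι ⁻¹ᵁ V x.1 x.2).ι l (by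
      rw [Scheme.Opens.range_ι]; rintro - ⟨v, rfl⟩
      rw [Subsingleton.elim v w]; exact hxV x.1 x.2)
    have hlx : lx ≫ (P.ι ⁻¹ᵁ V x.1 x.2).ι = l := IsOpenImmersion.lift_fac _ _ _
    rw [← hlx, Category.assoc]
    erw [𝒰.ι_glueMorphisms]
    rw [← Category.assoc]
    exact hfγ _ _ _ (by rw [Category.assoc, morphismRestrict_ι, reassoc_of% hlx, hl])

omit [Algebra O K] [IsFractionRing O K] in
theorem exists_prime_between (hd : 3 ≤ (maximalIdeal O).spanFinrank) (p : Ideal O) [p.IsPrime] (hp : p.height ≤ 1)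
    (t : O) (ht : t ∈ maximalIdeal O) :
    ∃ q : Ideal O, q.IsPrime ∧ p ≤ q ∧ t ∈ q ∧ q ≠ maximalIdeal O := by
  haveI := RegLoc.isDomain O
  haveI := RegLoc.ufd_of_isRegularLocalRing O
  by_contra hc
  push Not at hc
  obtain ⟨π, hπ⟩ : ∃ π : O, p = Ideal.span {π} := by
    by_cases h0 : p = ⊥
    · exact ⟨0, by simp [h0]⟩
    obtain ⟨π, hπp, hπ⟩ := (inferInstance : p.IsPrime).exists_mem_prime_of_ne_bot h0
    haveI : (Ideal.span ({π} : Set O)).IsPrime := (Ideal.span_singleton_prime hπ.ne_zero).2 hπ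
    refine ⟨π, le_antisymm ?_ ((Ideal.span_singleton_le_iff_mem _).2 hπp)⟩
    by_contra hne
    have hlt : Ideal.span ({π} : Set O) < p := lt_of_le_not_ge ((Ideal.span_singleton_le_iff_mem _).2 hπp) hne
    have h1 := Ideal.height_strict_mono_of_isPrime_of_isPrime hlt
    have h2 : (1 : ℕ∞) ≤ (Ideal.span ({π} : Set O)).height := (Ideal.height_span_singleton_eq_one_of_mem_nonZeroDivisors
      (mem_nonZeroDivisors_of_ne_zero hπ.ne_zero) hπ.not_isUnit).ge
    exact absurd (lt_of_le_of_lt h2 h1) (not_lt.2 hp)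
  have hmin : maximalIdeal O ∈ (Ideal.span ({π, t} : Set O)).minimalPrimes := by
    have hle : Ideal.span ({π, t} : Set O) ≤ maximalIdeal O := by
      rw [Ideal.span_le]
      rintro z (rfl | rfl)
      · exact le_maximalIdeal (Ideal.IsPrime.ne_top ‹_›) (hπ ▸ Ideal.mem_span_singleton_self z)
      · exact ht
    refine ⟨⟨inferInstance, hle⟩, fun q ⟨hq, hle'⟩ _ => ?_⟩
    have := hc q hq (hπ ▸ (Ideal.span_singleton_le_iff_mem _).2 (hle' (Ideal.subset_span (by simp))))
      (hle' (Ideal.subset_span (by simp)))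
    exact this.ge
  have h2 := Ideal.height_le_card_of_mem_minimalPrimes_span (Set.toFinite _) hmin
  have h3 := maximalIdeal_height_eq_ringKrullDim (R := O)
  rw [← IsRegularLocalRing.spanFinrank_maximalIdeal] at h3
  have h3' : (maximalIdeal O).height = ((maximalIdeal O).spanFinrank : ℕ∞) := WithBot.coe_inj.1 h3
  rw [h3'] at h2
  have h4 : ({π, t} : Set O).ncard ≤ 2 := (Set.ncard_insert_le _ _).trans (by simp)
  have : (maximalIdeal O).spanFinrank ≤ ({π, t} : Set O).ncard := by exact_mod_cast h2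
  omega

theorem exists_prime_span {π : O} (hd : 2 ≤ (maximalIdeal O).spanFinrank) (hπ : Prime π) :
    ∃ x : Spec O, x ∈ punctured O ∧ π ∈ x.asIdeal := by
  refine ⟨⟨Ideal.span {π}, (Ideal.span_singleton_prime hπ.ne_zero).2 hπ⟩, fun h => ?_, Ideal.mem_span_singleton_self π⟩
  have h' : maximalIdeal O = Ideal.span {π} := (congrArg PrimeSpectrum.asIdeal h).symm
  have : (maximalIdeal O).spanFinrank ≤ 1 := by
    rw [h']
    exact (Submodule.spanFinrank_span_le_ncard_of_finite (Set.finite_singleton π)).trans (Set.ncard_singleton π).le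
  omega

/-- The preimage of an affine open containing the points of a hyperplane of the punctured spectrum is everything. -/
theorem mem_of_hyperplane (hd : 3 ≤ (maximalIdeal O).spanFinrank) (G : Over (Spec O)) [IsSeparated G.hom] [Smooth G.hom]
    (P : (Spec O).Opens) (hP : ∀ x : Spec O, x ≠ closedPoint O → x ∈ P)
    (σ : P.toScheme ⟶ G.left) (W : G.left.Opens) (hW : IsAffineOpen W) (t : O) (htm : t ∈ maximalIdeal O)
    (hVt : ∀ x : P.toScheme, t ∈ x.1.asIdeal → σ.base x ∈ W) (c : P.toScheme) :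
    σ.base c ∈ W := by
  haveI := RegLoc.isDomain O
  by_contra hc
  haveI : IsLocallyNoetherian G.left := LocallyOfFiniteType.isLocallyNoetherian G.hom
  haveI : IsRegularRing O :=
    { toIsNoetherian := (inferInstance : IsNoetherianRing O), isRegularLocalRing_localization := fun p _ => RegLoc.isRegularLocalRing_localization O p }
  haveI := WeilExt.isRegularLocalRing_of_smooth G.hom (fun s => WeilExt.isRegularLocalRing_stalk_Spec O s) (σ.base c)
  haveI := RegLoc.isDomain (G.left.presheaf.stalk (σ.base c))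
  haveI := RegLoc.ufd_of_isRegularLocalRing (G.left.presheaf.stalk (σ.base c))
  obtain ⟨π, hπm, hπ⟩ := exists_divisor_outside G.hom (σ.base c) W hW hc
  letI : Algebra O ((Spec O).presheaf.stalk c.1) := StructureSheaf.stalkAlgebra O c.1
  haveI : c.1.asIdeal.IsPrime := c.1.isPrime
  haveI : IsLocalization.AtPrime ((Spec O).presheaf.stalk c.1) c.1.asIdeal := StructureSheaf.IsLocalization.to_stalk O c.1
  haveI : IsNoetherianRing ((Spec O).presheaf.stalk c.1) :=
    IsLocalization.isNoetherianRing c.1.asIdeal.primeCompl _ inferInstance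
  let s := P.fromSpecStalkOfMem c.1 c.2 ≫ σ
  have hs : s.base (closedPoint ((Spec O).presheaf.stalk c.1)) = σ.base c := by
    show σ.base ((P.fromSpecStalkOfMem c.1 c.2).base _) = σ.base c
    exact congrArg σ.base (fromSpecStalkOfMem_closedPoint P c.1 c.2)
  obtain ⟨ψ, hψmem, hψ⟩ := exists_stalk_factor s (σ.base c) hs
  have hψm : ψ.hom π ∈ maximalIdeal ((Spec O).presheaf.stalk c.1) := hψmem π hπm
  obtain ⟨pp, hpp, -⟩ := Ideal.exists_minimalPrimes_le ((Ideal.span_singleton_le_iff_mem _).2 hψm)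
  haveI := hpp.1.1
  let x1 : Spec ((Spec O).presheaf.stalk c.1) := ⟨pp, inferInstance⟩
  have hx1W : s.base x1 ∉ W := by
    rw [hψ x1]
    exact hπ _ (hpp.1.2 (Ideal.mem_span_singleton_self _))
  have hx1' : ((Spec O).fromSpecStalk c.1).base x1 = ⟨pp.comap (algebraMap O _), inferInstance⟩ := by
    rw [Spec.fromSpecStalk_eq']
    rfl
  have hh : (pp.comap (algebraMap O ((Spec O).presheaf.stalk c.1))).height ≤ 1 := by
    rw [IsLocalization.height_under c.1.asIdeal.primeCompl pp]
    exact Ideal.height_le_one_of_isPrincipal_of_mem_minimalPrimes _ pp hpp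
  obtain ⟨q, hq, hpq, htq, hqm⟩ := exists_prime_between hd _ hh t htm
  let xq : P.toScheme := ⟨⟨q, hq⟩, hP _ fun h => hqm (congrArg PrimeSpectrum.asIdeal h)⟩
  apply hx1W
  have hspec : (P.fromSpecStalkOfMem c.1 c.2).base x1 ⤳ xq := by
    refine P.ι.isOpenEmbedding.isInducing.specializes_iff.1 ?_
    rw [← Scheme.Hom.comp_apply, Scheme.Opens.fromSpecStalkOfMem_ι, hx1']
    exact (PrimeSpectrum.le_iff_specializes _ _).1 hpq
  exact (hspec.map σ.continuous).mem_open W.2 (hVt xq htq)

/-- Extension over regular local rings of dimension at least three. -/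
theorem exists_extension_dim_three (hd : 3 ≤ (maximalIdeal O).spanFinrank)
    (G : Over (Spec O)) [GrpObj G] [IsProper G.hom] [Smooth G.hom]
    (IH : ∀ (O' : CommRingCat.{u}) [IsRegularLocalRing O'],
      (maximalIdeal O').spanFinrank < (maximalIdeal O).spanFinrank → Extends O')
    (γ : Spec (CommRingCat.of K) ⟶ G.left) (hγ : γ ≫ G.hom = Spec.map (CommRingCat.ofHom (algebraMap O K))) :
    ∃ g : Spec O ⟶ G.left, g ≫ G.hom = 𝟙 _ ∧ Spec.map (CommRingCat.ofHom (algebraMap O K)) ≫ g = γ := by
  haveI := RegLoc.isDomain O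
  haveI := RegLoc.ufd_of_isRegularLocalRing O
  set P := punctured O with hP
  obtain ⟨σ, hσS, hσγ⟩ : ∃ σ : P.toScheme ⟶ G.left, σ ≫ G.hom = P.ι ∧
      ∀ l : Spec (CommRingCat.of K) ⟶ P.toScheme,
        l ≫ P.ι = Spec.map (CommRingCat.ofHom (algebraMap O K)) → l ≫ σ = γ := exists_punctured G IH γ hγ
  -- a hyperplane
  obtain ⟨t, htm, ht2⟩ : ∃ t ∈ maximalIdeal O, t ∉ maximalIdeal O ^ 2 := by
    have hnf : ¬ IsField O := fun h => by rw [(RegLoc.spanFinrank_maximalIdeal_eq_zero_iff).2 h] at hd; omega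
    obtain ⟨t, h1, h2, -⟩ := RegLoc.exists_mem_notMem_sq_notMem_minimalPrimes hnf
    exact ⟨t, h1, h2⟩
  obtain ⟨hreg, hdim'⟩ := RegLoc.quotient_span_singleton htm ht2
  let O' : CommRingCat.{u} := CommRingCat.of (O ⧸ Ideal.span ({t} : Set O))
  haveI : IsRegularLocalRing O' := hreg
  haveI := RegLoc.isDomain O'
  let mk : O ⟶ O' := CommRingCat.ofHom (Ideal.Quotient.mk _)
  let K' := FractionRing O'
  let j' : Spec (CommRingCat.of K') ⟶ Spec O' := Spec.map (CommRingCat.ofHom (algebraMap O' K'))
  have hker : ∀ z : Spec O', (Spec.map mk).base z = closedPoint O → z = closedPoint O' := fun z h => by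
    apply PrimeSpectrum.ext
    have h' : z.asIdeal.comap mk.hom = maximalIdeal O := congrArg PrimeSpectrum.asIdeal h
    show z.asIdeal = maximalIdeal O'
    rw [RegLoc.maximalIdeal_quotient, ← h']
    exact (Ideal.map_comap_of_surjective _ Ideal.Quotient.mk_surjective _).symm
  have hnf' : closedPoint O' ≠ j'.base (closedPoint K') := fun h => by
    have h' : maximalIdeal O' = (maximalIdeal K').comap (algebraMap O' K') := congrArg PrimeSpectrum.asIdeal h
    rw [maximalIdeal_eq_bot, ← RingHom.ker_eq_comap_bot,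
      (RingHom.injective_iff_ker_eq_bot _).1 (IsFractionRing.injective O' K')] at h'
    have : IsField O' := isField_iff_maximalIdeal_eq.2 h'
    have h0 : (maximalIdeal O').spanFinrank = 0 := RegLoc.spanFinrank_maximalIdeal_eq_zero_iff.2 this
    change (maximalIdeal O').spanFinrank + 1 = _ at hdim'
    omega
  have hj'P : Set.range (j' ≫ Spec.map mk).base ⊆ Set.range P.ι.base := by
    rintro _ ⟨w, rfl⟩
    rw [Scheme.Opens.range_ι, Scheme.Hom.comp_apply]
    intro h
    exact hnf' ((hker _ h).symm.trans (congrArg j'.base (Subsingleton.elim _ _)))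
  let l' := IsOpenImmersion.lift P.ι (j' ≫ Spec.map mk) hj'P
  have hl' : l' ≫ P.ι = j' ≫ Spec.map mk := IsOpenImmersion.lift_fac _ _ _
  let G' := (Over.pullback (Spec.map mk)).obj G
  letI : GrpObj G' := Functor.grpObjObj
  haveI : IsProper G'.hom := by dsimp [G']; infer_instance
  haveI : Smooth G'.hom := by dsimp [G']; infer_instance
  obtain ⟨g', hg', hg'γ⟩ := IH O' (show (maximalIdeal O').spanFinrank < _ by
      change (maximalIdeal O').spanFinrank + 1 = _ at hdim'; omega) K' G'
    (pullback.lift (l' ≫ σ) j' (by rw [Category.assoc, hσS, hl'])) (pullback.lift_snd _ _ _)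
  let g₀ : Spec O' ⟶ G.left := g' ≫ pullback.fst G.hom (Spec.map mk)
  have hg₀ : g₀ ≫ G.hom = Spec.map mk := by
    show (g' ≫ _) ≫ _ = _
    rw [Category.assoc, pullback.condition, ← Category.assoc]
    exact (congrArg (· ≫ Spec.map mk) hg').trans (Category.id_comp _)
  -- agreement along the hyperplane
  have hagree : (Spec.map mk ⁻¹ᵁ P).ι ≫ g₀ = (Spec.map mk ∣_ P) ≫ σ := by
    haveI : IsReduced (Spec.map mk ⁻¹ᵁ P).toScheme := isReduced_of_isOpenImmersion (Spec.map mk ⁻¹ᵁ P).ι
    have hmem : j'.base (closedPoint K') ∈ Spec.map mk ⁻¹ᵁ P := fun h => hnf' (hker _ h).symm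
    let l'' : Spec (CommRingCat.of K') ⟶ (Spec.map mk ⁻¹ᵁ P).toScheme := IsOpenImmersion.lift (Spec.map mk ⁻¹ᵁ P).ι j' (by
      rw [Scheme.Opens.range_ι]; rintro - ⟨w, rfl⟩
      rw [Subsingleton.elim w (closedPoint K')]; exact hmem)
    have hl'' : l'' ≫ (Spec.map mk ⁻¹ᵁ P).ι = j' := IsOpenImmersion.lift_fac _ _ _
    haveI : IsDominant l'' := by
      refine ⟨fun v => ?_⟩
      rw [(Spec.map mk ⁻¹ᵁ P).ι.isEmbedding.closure_eq_preimage_closure_image, Set.mem_preimage]
      refine closure_mono (s := {j'.base (closedPoint K')}) ?_ (specializes_iff_mem_closure.1 ?_)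
      · rintro _ rfl
        exact ⟨l''.base (closedPoint K'), ⟨_, rfl⟩, congrArg (fun a : _ ⟶ Spec O' => a.base (closedPoint K')) hl''⟩
      · refine (PrimeSpectrum.le_iff_specializes _ _).1 ?_
        show (maximalIdeal K').comap (algebraMap O' K') ≤ _
        rw [maximalIdeal_eq_bot, ← RingHom.ker_eq_comap_bot,
          (RingHom.injective_iff_ker_eq_bot _).1 (IsFractionRing.injective O' K')]
        exact bot_le
    refine ext_of_isDominant_of_isSeparated G.hom ?_ l'' ?_
    · simp only [Category.assoc, hg₀, hσS, morphismRestrict_ι]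
    · have e : l'' ≫ (Spec.map mk ∣_ P) = l' := by
        rw [← cancel_mono P.ι, Category.assoc, morphismRestrict_ι, reassoc_of% hl'', hl']
      rw [reassoc_of% hl'', reassoc_of% e]
      show j' ≫ g' ≫ pullback.fst _ _ = _
      rw [reassoc_of% hg'γ, pullback.lift_fst]
  -- an affine neighbourhood of the limit
  obtain ⟨W, hW, haW, -⟩ := exists_isAffineOpen_mem_and_subset (X := G.left)
    (x := g₀.base (closedPoint O')) (U := ⊤) trivial
  have hVt : ∀ (x : P.toScheme), t ∈ x.1.asIdeal → σ.base x ∈ W := fun x hx => by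
    have hsurj : Function.Surjective mk.hom := Ideal.Quotient.mk_surjective
    let z : Spec O' := ⟨x.1.asIdeal.map mk.hom, Ideal.map_isPrime_of_surjective (f := mk.hom) hsurj (H := x.1.isPrime)
      (by
        show RingHom.ker (Ideal.Quotient.mk (Ideal.span ({t} : Set O))) ≤ _
        rw [Ideal.mk_ker]; exact (Ideal.span_singleton_le_iff_mem _).2 hx)⟩
    have hz : (Spec.map mk).base z = x.1 := by
      apply PrimeSpectrum.ext
      show (x.1.asIdeal.map mk.hom).comap mk.hom = _
      rw [Ideal.comap_map_of_surjective _ hsurj, sup_eq_left]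
      show RingHom.ker (Ideal.Quotient.mk (Ideal.span ({t} : Set O))) ≤ _
      rw [Ideal.mk_ker]; exact (Ideal.span_singleton_le_iff_mem _).2 hx
    have hzP : z ∈ Spec.map mk ⁻¹ᵁ P := by show (Spec.map mk).base z ∈ P; rw [hz]; exact x.2
    let zP : (Spec.map mk ⁻¹ᵁ P).toScheme := ⟨z, hzP⟩
    have hx' : (Spec.map mk ∣_ P).base zP = x := by
      apply P.ι.isOpenEmbedding.injective
      exact (congrArg (fun a : _ ⟶ Spec O => a.base zP) (morphismRestrict_ι (Spec.map mk) P)).trans hz
    have h1 : g₀.base z = σ.base ((Spec.map mk ∣_ P).base zP) := congrArg (fun a : _ ⟶ G.left => a.base zP) hagree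
    rw [hx'] at h1
    rw [← h1]
    exact ((IsLocalRing.specializes_closedPoint (R := O') z).map g₀.continuous).mem_open W.2 haW
  have hW' : ∀ c : P.toScheme, σ.base c ∈ W := fun c => mem_of_hyperplane hd G P (fun _ h => h) σ W hW t htm hVt c
  -- Hartogs
  haveI : Nonempty P := by
    obtain ⟨x, hx⟩ : ∃ x : Spec O, x ∈ P := ⟨⟨⊥, Ideal.isPrime_bot⟩, fun h => by
      have := congrArg PrimeSpectrum.asIdeal h
      change (⊥ : Ideal O) = maximalIdeal O at this
      rw [← this] at hd; simp at hd⟩
    exact ⟨⟨x, hx⟩⟩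
  haveI : UniqueFactorizationMonoid Γ(Spec O, ⊤) :=
    MulEquiv.uniqueFactorizationMonoid (Scheme.ΓSpecIso O).commRingCatIsoToRingEquiv.symm.toMulEquiv inferInstance
  haveI : IsAffine W.toScheme := hW
  obtain ⟨g, hg⟩ := exists_factor (Spec O) P (fun π hπ => by
      obtain ⟨x, hx, hπx⟩ := exists_prime_span (π := (Scheme.ΓSpecIso O).hom π) (by omega)
        ((MulEquiv.prime_iff (Scheme.ΓSpecIso O).commRingCatIsoToRingEquiv.toMulEquiv).2 hπ)
      exact ⟨x, hx, by rw [basicOpen_eq_of_affine']; exact fun h => h hπx⟩)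
    (IsOpenImmersion.lift W.ι σ (by rw [Scheme.Opens.range_ι]; rintro - ⟨c, rfl⟩; exact hW' c))
  haveI : IsDominant P.ι := ⟨by
    rw [DenseRange, Scheme.Opens.range_ι]
    exact P.2.dense ⟨_, (Classical.arbitrary P).2⟩⟩
  have hgσ : P.ι ≫ g ≫ W.ι = σ := by rw [reassoc_of% hg, IsOpenImmersion.lift_fac]
  refine ⟨g ≫ W.ι, ext_of_isDominant P.ι ?_, ?_⟩
  · rw [Category.comp_id, Category.assoc, reassoc_of% hgσ, hσS]
  · have hjP : Set.range (Spec.map (CommRingCat.ofHom (algebraMap O K))).base ⊆ Set.range P.ι.base := by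
      rintro _ ⟨w, rfl⟩
      rw [Scheme.Opens.range_ι]
      intro h
      have h' : (maximalIdeal K).comap (algebraMap O K) = maximalIdeal O := by
        rw [Subsingleton.elim w (closedPoint K)] at h
        exact congrArg PrimeSpectrum.asIdeal h
      rw [maximalIdeal_eq_bot, ← RingHom.ker_eq_comap_bot,
        (RingHom.injective_iff_ker_eq_bot _).1 (IsFractionRing.injective O K)] at h'
      rw [← h'] at hd; simp at hd
    have hl := IsOpenImmersion.lift_fac P.ι _ hjP
    conv_lhs => rw [← hl, Category.assoc, hgσ]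
    exact hσγ _ hl

/-- **Points of abelian schemes over regular local rings extend.** -/
theorem extends_of_isRegularLocalRing (O : CommRingCat.{u}) [IsRegularLocalRing O] : Extends O := by
  suffices ∀ n, ∀ (O : CommRingCat.{u}) [IsRegularLocalRing O], (maximalIdeal O).spanFinrank = n → Extends O from
    this _ O rfl
  intro n
  induction n using Nat.strong_induction_on with
  | _ n ih =>
    intro O _ hn K _ _ _ G _ _ _ γ hγ
    rcases Nat.lt_or_ge n 2 with h | h
    · haveI := RegLoc.isDomain O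
      haveI : ValuationRing O := by
        refine ((tfae_of_isNoetherianRing_of_isLocalRing_of_isDomain O).out 1 5).2 ?_
        rw [← IsLocalRing.spanFinrank_maximalIdeal_eq_finrank_cotangentSpace]
        omega
      obtain ⟨σ, hσ⟩ := WeilExt.exists_lift_valuationRing (R := O) (G := G) (K := CommRingCat.of K)
        (Field.toIsField K) (CommRingCat.ofHom (algebraMap O K)) (by
          have : (algebraMap O K).toAlgebra = (inferInstance : Algebra O K) := Algebra.algebra_ext _ _ fun _ => rfl
          show @IsFractionRing O _ K _ (algebraMap O K).toAlgebra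
          rw [this]; infer_instance)
        (𝟙 O) (CommRingCat.ofHom (algebraMap O K)) (Category.id_comp _) (Over.homMk γ hγ)
      refine ⟨σ.left, ?_, congr(($hσ).left)⟩
      exact (Over.w σ).trans (Spec.map_id _)
    rcases h.eq_or_lt with h2 | h3
    · exact exists_extension_dim_two (hn.trans h2.symm) K G γ hγ
    · exact exists_extension_dim_three (by omega) G (fun O' _ hlt => ih _ (hn ▸ hlt) O' rfl) γ hγ

end Groth.Agent.RegExt
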