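import Groth.Agent.Lib.RegExt.P1
import Mathlib.FieldTheory.IsAlgClosed.AlgebraicClosure

/-!
# The image of a rational curve in a proper group scheme is a closed point
-/

set_option linter.style.haveILetI false

universe u

open CategoryTheory Limits AlgebraicGeometry MonoidalCategory CartesianMonoidalCategory MonObj Polynomial

namespace Groth.Agent.RegExt

/-- A point of a proper group scheme over the fraction field of a Dedekind domain extends. -/
theorem exists_extension_dedekind {A : Type u} [CommRing A] [IsDedekindDomain A]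
    (G : Over (Spec (CommRingCat.of A))) [GrpObj G] [IsProper G.hom]
    (γ : Spec (CommRingCat.of (FractionRing A)) ⟶ G.left) (hγ : γ ≫ G.hom = Neron.genPt A) :
    ∃ g : Spec (CommRingCat.of A) ⟶ G.left, g ≫ G.hom = 𝟙 _ ∧ Neron.genPt A ≫ g = γ := by
  let T0 : Over (Spec (CommRingCat.of A)) := Over.mk (𝟙 _)
  haveI : Smooth T0.hom := inferInstanceAs (Smooth (𝟙 _))
  obtain ⟨g, ⟨hg, hgu⟩, -⟩ := WeilExt.exists_extension_genericFibre T0 G
    (pullback.lift (pullback.snd T0.hom (Neron.genPt A) ≫ γ) (pullback.snd T0.hom (Neron.genPt A))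
      (by rw [Category.assoc, hγ]))
    (pullback.lift_snd _ _ _)
  refine ⟨g, hg, ?_⟩
  let t : Spec (CommRingCat.of (FractionRing A)) ⟶ pullback T0.hom (Neron.genPt A) :=
    pullback.lift (Neron.genPt A) (𝟙 _) (by simp [T0])
  have := congrArg (t ≫ ·) hgu
  simp only [pullback.lift_fst] at this
  rw [← Category.assoc t, ← Category.assoc t] at this
  rw [show t ≫ pullback.fst T0.hom (Neron.genPt A) = Neron.genPt A from pullback.lift_fst _ _ _,
    show t ≫ pullback.snd T0.hom (Neron.genPt A) = 𝟙 _ from pullback.lift_snd _ _ _, Category.id_comp] at this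
  exact this

/-- Over an algebraically closed field, a point with values in `k(T)` is constant. -/
theorem exists_factor_ratFunc {k : Type u} [Field k] [IsAlgClosed k] (G : Over (Spec (CommRingCat.of k)))
    [GrpObj G] [IsProper G.hom] (b : Spec (CommRingCat.of (FractionRing k[X])) ⟶ G.left)
    (hb : b ≫ G.hom = Spec.map (CommRingCat.ofHom (algebraMap k (FractionRing k[X])))) :
    ∃ c : 𝟙_ (Over (Spec (CommRingCat.of k))) ⟶ G,
      b = Spec.map (CommRingCat.ofHom (algebraMap k (FractionRing k[X]))) ≫ c.left := by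
  let φ := Spec.map (CommRingCat.ofHom (algebraMap k k[X]))
  let G' := (Over.pullback φ).obj G
  letI : GrpObj G' := Functor.grpObjObj
  haveI : IsProper G'.hom := by dsimp [G']; infer_instance
  have hgen : Neron.genPt k[X] ≫ φ = Spec.map (CommRingCat.ofHom (algebraMap k (FractionRing k[X]))) := by
    rw [Neron.genPt, ← Spec.map_comp, ← CommRingCat.ofHom_comp, ← IsScalarTower.algebraMap_eq]
  obtain ⟨g, hg, hgb⟩ := exists_extension_dedekind G'
    (pullback.lift b (Neron.genPt k[X]) (by rw [hb, hgen])) (pullback.lift_snd _ _ _)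
  let f : line k ⟶ G := Over.homMk (g ≫ pullback.fst G.hom φ) (by
    show (g ≫ _) ≫ G.hom = φ
    rw [Category.assoc, pullback.condition, ← Category.assoc]
    exact (congrArg (· ≫ φ) hg).trans (Category.id_comp _))
  refine ⟨linePt k 0 ≫ f, ?_⟩
  have h := congrArg (fun t => Neron.genPt k[X] ≫ t.left) (const_of_line k G f)
  change Neron.genPt k[X] ≫ g ≫ pullback.fst G.hom φ = Neron.genPt k[X] ≫ φ ≫ (linePt k 0 ≫ f).left at h
  rw [reassoc_of% hgb, reassoc_of% hgen] at h
  rw [pullback.lift_fst] at h
  exact h

/-- The image of a point with values in `L(T)`, `L` algebraic over `k`, is a closed point. -/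
theorem isClosed_image_ratFunc {k : Type u} [Field k] (G : Over (Spec (CommRingCat.of k)))
    [GrpObj G] [IsProper G.hom] (L : Type u) [Field L] [Algebra k L] [Algebra.IsAlgebraic k L]
    (b : Spec (CommRingCat.of (FractionRing L[X])) ⟶ G.left)
    (hb : b ≫ G.hom = Spec.map (CommRingCat.ofHom (algebraMap k (FractionRing L[X]))))
    (z : Spec (CommRingCat.of (FractionRing L[X]))) :
    IsClosed ({b.base z} : Set G.left) := by
  let Kb := AlgebraicClosure L
  haveI : Algebra.IsAlgebraic k Kb := Algebra.IsAlgebraic.trans k L Kb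
  let φ := Spec.map (CommRingCat.ofHom (algebraMap k Kb))
  let G' := (Over.pullback φ).obj G
  letI : GrpObj G' := Functor.grpObjObj
  haveI : IsProper G'.hom := by dsimp [G']; infer_instance
  let m : L[X] →+* FractionRing Kb[X] := (algebraMap Kb[X] (FractionRing Kb[X])).comp (mapRingHom (algebraMap L Kb))
  have hm : Function.Injective m := (IsFractionRing.injective Kb[X] (FractionRing Kb[X])).comp
    (map_injective _ (algebraMap L Kb).injective)
  let ψ : FractionRing L[X] →+* FractionRing Kb[X] := IsFractionRing.lift (g := m) hm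
  have hψ : ψ.comp (algebraMap k (FractionRing L[X])) = (algebraMap Kb (FractionRing Kb[X])).comp (algebraMap k Kb) := by
    ext r
    simp only [RingHom.comp_apply]
    rw [IsScalarTower.algebraMap_apply k L[X] (FractionRing L[X]) r]
    show IsFractionRing.lift (g := m) hm _ = _
    rw [IsFractionRing.lift_algebraMap, IsScalarTower.algebraMap_apply Kb Kb[X] (FractionRing Kb[X]),
      IsScalarTower.algebraMap_apply k L L[X] r, IsScalarTower.algebraMap_apply k L Kb r]
    simp [m]
  obtain ⟨c, hc⟩ := exists_factor_ratFunc G'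
    (pullback.lift (Spec.map (CommRingCat.ofHom ψ) ≫ b) (Spec.map (CommRingCat.ofHom (algebraMap Kb (FractionRing Kb[X]))))
      (by rw [Category.assoc, hb, ← Spec.map_comp, ← Spec.map_comp, ← CommRingCat.ofHom_comp, ← CommRingCat.ofHom_comp, hψ]))
    (pullback.lift_snd _ _ _)
  have h1 := congrArg (· ≫ pullback.fst G.hom φ) hc
  simp only [pullback.lift_fst] at h1
  let d : Spec (CommRingCat.of Kb) ⟶ G.left := c.left ≫ pullback.fst G.hom φ
  have hdw : d ≫ G.hom = φ := by
    have : c.left ≫ pullback.snd G.hom φ = 𝟙 _ := Over.w c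
    rw [Category.assoc, pullback.condition, reassoc_of% this]
  haveI : IsIntegralHom φ := IsIntegralHom.SpecMap_iff.2 (algebraMap_isIntegral_iff.2 inferInstance)
  haveI : UniversallyClosed (d ≫ G.hom) := by rw [hdw]; infer_instance
  haveI : UniversallyClosed d := .of_comp_of_isSeparated d G.hom
  obtain ⟨z', rfl⟩ : ∃ z', (Spec.map (CommRingCat.ofHom ψ)).base z' = z :=
    ⟨IsLocalRing.closedPoint _, Subsingleton.elim _ _⟩
  rw [← Scheme.Hom.comp_apply, h1, Category.assoc, Scheme.Hom.comp_apply]
  rw [← Set.image_singleton]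
  exact d.isClosedMap _ (isClosed_discrete _)

end Groth.Agent.RegExt
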