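import Mathlib.AlgebraicGeometry.SpreadingOut
import Mathlib.AlgebraicGeometry.FunctionField

/-!
# Spreading out points over a fraction field
-/

set_option linter.style.haveILetI false

universe u

open CategoryTheory AlgebraicGeometry

namespace Groth.Agent.RegExt

/-- A point with values in the fraction field of a domain spreads out to a dense open. -/
theorem exists_spread (R : CommRingCat.{u}) [IsDomain R] (K : Type u) [Field K] [Algebra R K] [IsFractionRing R K]
    {Y S : Scheme.{u}} (c : Spec R ⟶ S) (q : Y ⟶ S) [LocallyOfFiniteType q]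
    (a : Spec (CommRingCat.of K) ⟶ Y) (ha : a ≫ q = Spec.map (CommRingCat.ofHom (algebraMap R K)) ≫ c) :
    ∃ (V : (Spec R).Opens) (g : V.toScheme ⟶ Y) (l : Spec (CommRingCat.of K) ⟶ V.toScheme),
      Dense (V : Set (Spec R)) ∧ g ≫ q = V.ι ≫ c ∧
        l ≫ V.ι = Spec.map (CommRingCat.ofHom (algebraMap R K)) ∧ l ≫ g = a := by
  let gp := genericPoint (Spec R)
  haveI : IsFractionRing R (Spec R).functionField := functionField_isFractionRing_of_affine R
  let E : K ≃ₐ[R] (Spec R).functionField := IsLocalization.algEquiv (nonZeroDivisors R) K (Spec R).functionField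
  let ψ : CommRingCat.of K ⟶ (Spec R).functionField := CommRingCat.ofHom E.toRingEquiv.toRingHom
  haveI : IsIso ψ := (ConcreteCategory.isIso_iff_bijective _).2 E.bijective
  have hst : (Spec R).fromSpecStalk gp = Spec.map ψ ≫ Spec.map (CommRingCat.ofHom (algebraMap R K)) := by
    rw [← Spec.map_comp, Spec.fromSpecStalk_eq']
    exact congrArg Spec.map (CommRingCat.hom_ext (RingHom.ext fun r => (E.commutes r).symm))
  obtain ⟨V, hgp, g, hg, hgS⟩ := spread_out_of_isGermInjective' c q (Spec.map ψ ≫ a) (x := gp) (by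
    rw [hst, Category.assoc, ha, Category.assoc])
  refine ⟨V, g, inv (Spec.map ψ) ≫ V.fromSpecStalkOfMem gp hgp, V.2.dense ⟨gp, hgp⟩, hgS, ?_, ?_⟩
  · rw [Category.assoc, Scheme.Opens.fromSpecStalkOfMem_ι, IsIso.inv_comp_eq, hst]
  · rw [Category.assoc, IsIso.inv_comp_eq, ← hg]

end Groth.Agent.RegExt
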